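import Mathlib
import Cfsg.Prelude.Def_CaseTheorems
import Cfsg.Prelude.Def_Involutions
import Cfsg.Agent.Lib.Sig.Two
import Cfsg.Agent.Lib.Transfer.Gruen

/-!
# Groups with solvable involution centralizers: the functor `t ↦ O_{2'}(C(t))`
-/

set_option autoImplicit false

namespace Cfsg.Agent.ZN

open Subgroup Cfsg.Agent.Coprime Cfsg.Agent.OO Cfsg.Agent.Sig
open scoped Pointwise

universe u

variable {G : Type u} [Group G]

/-- `θ(t) = O_{2'}(C(t))` -/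
abbrev th (t : G) : Subgroup G := Op' 2 𝐂[t]

/-- `⟨θ(b) : b ∈ B^#⟩` -/
def KK (B : Subgroup G) : Subgroup G := ⨆ b ∈ sharp B, th b

/-- centralizers of involutions are solvable -/
def HC (G : Type u) [Group G] : Prop := ∀ t : G, orderOf t = 2 → Sol 𝐂[t]

variable {A B B' H K M S T W : Subgroup G} {a b g t z : G}

theorem th_conj (g t : G) : th (g * t * g⁻¹) = g •ᶜ th t := by
  rw [th, cent1_conj]; exact Opi_conj _ _ _

theorem th_le_KK_of_mem (hb : b ∈ B) (h1 : b ≠ 1) : th b ≤ KK B :=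
  le_iSup₂_of_le (f := fun b (_ : b ∈ sharp B) => th b) b (mem_sharp_iff.2 ⟨hb, h1⟩) le_rfl

theorem KK_le (h : ∀ b ∈ B, b ≠ 1 → th b ≤ K) : KK B ≤ K :=
  iSup₂_le fun b hb => h b (mem_sharp_iff.1 hb).1 (mem_sharp_iff.1 hb).2

theorem conj_KK_le (g : G) (B : Subgroup G) : g •ᶜ KK B ≤ KK (g •ᶜ B) := by
  rw [conj_le_iff_le_inv_conj]
  refine KK_le fun b hb h1 => ?_
  rw [← conj_le_iff_le_inv_conj, ← th_conj]
  exact th_le_KK_of_mem (conj_mem_conj hb) (conj_ne_one.2 h1)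

theorem KK_conj (g : G) (B : Subgroup G) : KK (g •ᶜ B) = g •ᶜ KK B := by
  refine le_antisymm ?_ (conj_KK_le g B)
  rw [le_conj_iff_inv_conj_le]
  simpa [conj_conj] using conj_KK_le g⁻¹ (g •ᶜ B)

theorem norm_le_norm_KK (B : Subgroup G) : 𝐍(B) ≤ 𝐍(KK B) := fun g hg => by
  rw [← conj_eq_self_iff, ← KK_conj, conj_eq_of_mem_norm hg]

theorem inv_of_abelem (hB : IsElementaryAbelian 2 B) (hb : b ∈ B) (h1 : b ≠ 1) : orderOf b = 2 :=
  orderOf_eq_of_abelem hB hb h1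

theorem isPGroup_zpowers_inv (ht : orderOf t = 2) : IsPGroup 2 (zpowers t) :=
  IsPGroup.of_card (n := 1) (by rw [Nat.card_zpowers, ht]; rfl)

theorem ne_one_of_inv (ht : orderOf t = 2) : t ≠ 1 := fun e => by simp [e] at ht

theorem sq_of_inv (ht : orderOf t = 2) : t ^ 2 = 1 := ht ▸ pow_orderOf_eq_one t

theorem inv_of_sq (h : t ^ 2 = 1) (h1 : t ≠ 1) : orderOf t = 2 := orderOf_eq_prime h h1

variable [Finite G]

theorem th_odd (t : G) : ¬ 2 ∣ ♯(th t) := not_dvd_Op' _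

theorem th_bal (hC : HC G) (ha : orderOf a = 2) (hb : orderOf b = 2) (hab : a ∈ 𝐂[b]) :
    th a ⊓ 𝐂[b] ≤ th b := by
  refine le_trans ?_ (p'core_cent_pgroup (zpowers_le.2 hab) (isPGroup_zpowers_inv ha) (hC b hb))
  rw [cent_zpowers]
  exact le_trans (le_inf inf_le_left (le_inf inf_le_right (inf_le_left.trans (Opi_le _ _))))
    (Opi_inf_le _ inf_le_right)

theorem th_le_KK (hC : HC G) (ht : orderOf t = 2) (hB : IsElementaryAbelian 2 B)
    (hnc : ¬ IsCyclic B) (h : B ≤ 𝐂[t]) : th t ≤ KK B :=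
  coprime_abelian_gen_cent1 (abelem_ab hB) hnc (h.trans (Opi_normal _ _).norm)
    (coprime_of_isPGroup (abelem_isPGroup hB) (Op'_piGrp 2 _)).symm fun _ hb h1 =>
      (th_bal hC ht (inv_of_abelem hB hb h1) (mem_cent1_comm.1 (h hb))).trans (th_le_KK_of_mem hb h1)

theorem KK_le_KK (hC : HC G) (hA : IsElementaryAbelian 2 A) (hB : IsElementaryAbelian 2 B)
    (hnc : ¬ IsCyclic B) (h : A ≤ 𝐂(B)) : KK A ≤ KK B :=
  KK_le fun _ ha h1 => th_le_KK hC (inv_of_abelem hA ha h1) hB hnc (le_cent1_iff.2 (h ha))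

theorem KK_eq_KK (hC : HC G) (hA : IsElementaryAbelian 2 A) (hB : IsElementaryAbelian 2 B)
    (hnA : ¬ IsCyclic A) (hnB : ¬ IsCyclic B) (h : A ≤ 𝐂(B)) : KK A = KK B :=
  le_antisymm (KK_le_KK hC hA hB hnB h) (KK_le_KK hC hB hA hnA (le_cent_symm h))

theorem isSig_th (hC : HC G) (hA : IsElementaryAbelian 2 A) (h8 : 2 ^ 3 ≤ ♯A) : IsSig 2 A th :=
  have hc : ∀ a ∈ A, A ≤ 𝐂[a] := fun _ ha => (abelem_le_cent hA).trans (cent_le_cent1 ha)
  ⟨Nat.prime_two, hA, h8, fun _ _ _ => Opi_le _ _, fun a _ _ => th_odd a,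
    fun a ha _ => (hc a ha).trans (Opi_normal _ _).norm,
    fun a ha h1 => sol_of_le (hC a (inv_of_abelem hA ha h1)) (Opi_le _ _),
    fun _ ha h1 b hb h2 => th_bal hC (inv_of_abelem hA ha h1) (inv_of_abelem hA hb h2) (hc b hb ha)⟩

theorem KK_odd (hC : HC G) (hA : IsElementaryAbelian 2 A) (h8 : 2 ^ 3 ≤ ♯A) : ¬ 2 ∣ ♯(KK A) := by
  obtain ⟨E, hE, h⟩ := complete_two (isSig_th hC hA h8)
  exact fun h2 => hE.cop (h2.trans (card_dvd (KK_le h)))

theorem not_isCyclic_of_card (hA : IsElementaryAbelian 2 A) (h : 2 < ♯A) : ¬ IsCyclic A := by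
  intro h1
  obtain ⟨x, rfl⟩ := exists_zpowers_eq h1
  by_cases hx : x = 1
  · rw [hx, zpowers_one_eq_bot, card_bot] at h; omega
  · rw [Nat.card_zpowers, inv_of_abelem hA (mem_zpowers x) hx] at h; omega

/-- the centralizer of an involution normalizes `K(W)` for `W` central in a Sylow subgroup -/
theorem cent_le_norm_KK (hC : HC G) (ht : orderOf t = 2) (hT : Syl 2 T 𝐂[t])
    (hW : IsElementaryAbelian 2 W) (hnc : ¬ IsCyclic W) (hWT : W ≤ Zc T) : 𝐂[t] ≤ 𝐍(KK W) := by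
  have hQ := hT.inf_normal (Op'p_normal 2 𝐂[t])
  set Q := T ⊓ Op'p 2 𝐂[t] with hQdef
  have h1 : W ≤ Zc Q := le_inf (le_inf (hWT.trans inf_le_left)
    (le_trans (le_inf (hWT.trans (inf_le_left.trans hT.le)) (hWT.trans
      (inf_le_right.trans (cent_anti inf_le_left)))) (solvable_p_constrained 2 (hC t ht) Q hQ)))
    (hWT.trans (inf_le_right.trans (cent_anti inf_le_left)))
  have hV := Ohm_abelem 2 (Zc_ab Q)
  have h2 : W ≤ Ohm 2 (Zc Q) := le_Ohm h1 hW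
  have h3 : KK W = KK (Ohm 2 (Zc Q)) := KK_eq_KK hC hW hV hnc
    (fun h => hnc (isCyclic_of_le' h h2)) (h2.trans (abelem_le_cent hV))
  have h4 : 𝐍(Q) ≤ 𝐍(KK W) := by
    rw [h3]
    exact (norm_le_norm_Zc Q).trans ((norm_le_norm_Ohm 2 _).trans (norm_le_norm_KK _))
  rw [← (hQ.frattini (Op'p_normal 2 𝐂[t])).sup_eq, ← (sdprod_Op'p hQ).sup_eq]
  exact sup_le (sup_le (le_norm_of_le (th_le_KK hC ht hW hnc (hWT.trans (inf_le_left.trans hT.le))))
    ((le_norm_self Q).trans h4)) (inf_le_right.trans h4)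

/-- Thompson's transfer lemma for involutions of `O²(G)` -/
theorem exists_conj_mem (hS : Syl 2 S ⊤) (hM : M ≤ S) (hi : M.relIndex S = 2)
    (ht : t ∈ pResidual 2 G) (h2 : t ^ 2 = 1) : ∃ g, g * t * g⁻¹ ∈ M := by
  by_contra! h
  obtain ⟨P, rfl⟩ := hS.exists_sylow_top
  obtain ⟨N, hN, h1, h3⟩ := Transfer.thompson_transfer_sylow P hM hi h2
    fun g => by simpa using h g⁻¹
  exact h3 (Transfer.pResidual_le_of_index_eq_pow (p := 2) (k := 1) N h1 ht)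

/-- the data producing a strongly embedded subgroup or trivial cores -/
structure Good (S H K : Subgroup G) (z : G) : Prop where
  odd : ¬ 2 ∣ ♯K
  le : S ≤ 𝐍(K)
  fus : ∀ g, g * z * g⁻¹ ∈ S → g ∈ 𝐍(K)
  cent : ∀ t ∈ H, orderOf t = 2 → ∃ k : G, 𝐂[t] ≤ k •ᶜ 𝐍(K) ∧ th t ≤ k •ᶜ K

theorem odd_inf_conj (hS : Syl 2 S ⊤) (hz : z ∈ 𝐂(S)) (hz2 : orderOf z = 2) (hM : S ≤ M)
    (hf : ∀ g, g * z * g⁻¹ ∈ S → g ∈ M) (hc : ∀ t ∈ H, orderOf t = 2 → ∃ k : G, 𝐂[t] ≤ k •ᶜ M)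
    (hg : g ∉ M) : ¬ 2 ∣ ♯(H ⊓ (M ⊓ g •ᶜ M)) := by
  have hSM := hS.mono hM le_top
  have hf' : ∀ g, g * z * g⁻¹ ∈ M → g ∈ M := fun g h => by
    obtain ⟨m, hm, h1⟩ := hSM.exists_conj_le (zpowers_le.2 h)
      (isPGroup_zpowers_inv (by rw [orderOf_conj, hz2]))
    have := hf (m * g) (by
      have := h1 (conj_mem_conj (mem_zpowers _)); convert this using 1; group)
    exact (M.mul_mem_cancel_left hm).1 this
  have key : ∀ t g k : G, orderOf t = 2 → t ∈ g •ᶜ M → 𝐂[t] ≤ k •ᶜ M → k⁻¹ * g ∈ M := by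
    intro t g k ht h1 h2
    obtain ⟨m, hm, h3⟩ := hSM.exists_le_conj' (zpowers_le.2 (mem_conj.1 h1))
      (isPGroup_zpowers_inv (by rw [orderOf_conj', ht]))
    have h4 : (g * m) * z * (g * m)⁻¹ ∈ 𝐂[t] := by
      have := mem_cent_iff.1 hz _ (mem_conj.1 (h3 (mem_zpowers _)))
      rw [mem_cent1]
      calc g * m * z * (g * m)⁻¹ * t = g * m * (z * (m⁻¹ * (g⁻¹ * t * g) * m)) * (g * m)⁻¹ := by group
        _ = _ := by rw [← this]; group
    have := hf' (k⁻¹ * g * m) (by convert mem_conj.1 (h2 h4) using 1; group)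
    exact (M.mul_mem_cancel_right hm).1 this
  intro h
  obtain ⟨t, ⟨h1, h2, h3⟩, ht⟩ := cauchy Nat.prime_two h
  obtain ⟨k, hk⟩ := hc t h1 ht
  have h4 := key t 1 k ht (by simpa using h2) hk
  have h5 := key t g k ht h3 hk
  exact hg ((M.mul_mem_cancel_left (by simpa using h4)).1 h5)

omit [Finite G] in
theorem stronglyEmbedded_subgroupOf (h1 : ¬ H ≤ M) (h2 : 2 ∣ ♯(H ⊓ M))
    (h : ∀ g ∈ H, g ∉ M → ¬ 2 ∣ ♯(H ⊓ (M ⊓ g •ᶜ M))) : IsStronglyEmbedded (M.subgroupOf H) := by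
  have hc : ∀ L : Subgroup G, Nat.card (L.subgroupOf H) = ♯(H ⊓ L) := fun L => by
    rw [← inf_subgroupOf_left, Nat.card_congr (subgroupOfEquivOfLe inf_le_left).toEquiv]
  refine ⟨fun e => h1 (subgroupOf_eq_top.1 e), even_iff_two_dvd.2 (hc M ▸ h2), fun g hg => ?_⟩
  rw [← conj_eq_map, ← subgroupOf_conj g.2, ← Nat.not_even_iff_odd, even_iff_two_dvd]
  have := h g g.2 hg
  rwa [← hc] at this

/-- `H` has local characteristic two -/
def LocChar (H : Subgroup G) : Prop :=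
  ∀ T ≤ H, IsPGroup 2 T → T ≠ ⊥ → Core.IsCharIn 2 (H ⊓ 𝐍(T))

theorem locChar_of_th (hC : HC G) (hH : pResidual 2 G ≤ H)
    (h : ∀ t ∈ H, orderOf t = 2 → th t = ⊥) : LocChar H := by
  intro T hTH hT h0
  obtain ⟨t, ht, ht2⟩ := cauchy Nat.prime_two (dvd_card_of_isPGroup (hT.to_le (Zc_le T))
    (Zc_ne_bot (nil_of_isPGroup hT) h0))
  have h1 : 𝐂(T) ≤ 𝐂[t] := cent_le_cent1 ht.1
  have hn : (H ⊓ 𝐂(T)) ⊴ (H ⊓ 𝐍(T)) := ⟨inf_le_inf_left _ (cent_le_norm T),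
    le_norm_inf (le_norm_of_le inf_le_left) (inf_le_right.trans (norm_le_norm_cent T))⟩
  have hR : (pResidual 2 G ⊓ 𝐂(T)) ⊴ 𝐂(T) := by
    simpa using (normalIn_top.2 (inferInstance : (pResidual 2 G).Normal)).inf_right
      (le_top : 𝐂(T) ≤ ⊤)
  have h2 : Op' 2 (H ⊓ 𝐂(T)) = ⊥ := by
    have h3 := p'core_cent_pgroup (le_cent1_iff.2 ht.2) hT (hC t ht2)
    rw [inf_eq_right.2 h1, show Op' 2 𝐂[t] = ⊥ from h t (hTH ht.1) ht2] at h3
    refine eq_bot_iff.2 (le_trans ?_ ((Opi_le_of_normal _ hR).trans h3))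
    refine Opi_le_Opi (inf_le_inf_right _ hH) (le_inf (fun x hx => subset_closure ?_)
      ((Opi_le _ _).trans inf_le_right))
    exact (Nat.coprime_two_right.2 (Nat.not_even_iff_odd.1 fun e =>
      not_dvd_Op' _ ((even_iff_two_dvd.1 e).trans (orderOf_dvd_card hx))))
  have h3 := cent_Op_le_of_Op'_eq_bot (sol_of_le (hC t ht2) (inf_le_right.trans h1)) h2
  have h4 := Op_le_of_normal 2 hn
  have h5 : T ≤ Op 2 (H ⊓ 𝐍(T)) := le_Op ⟨le_inf hTH (le_norm_self T), inf_le_right⟩ hT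
  exact le_trans (le_inf (inf_le_inf inf_le_left (cent_anti h5))
    (inf_le_right.trans (cent_anti h4))) (h3.trans h4)

omit [Finite G] in
theorem isCharIn_map {G' : Type*} [Group G'] {f : G →* G'} (hf : Function.Injective f) {p : ℕ} :
    Core.IsCharIn p (M.map f) ↔ Core.IsCharIn p M := by
  change M.map f ⊓ 𝐂(Op p (M.map f)) ≤ Op p (M.map f) ↔ M ⊓ 𝐂(Op p M) ≤ Op p M
  rw [← map_Op hf]
  refine ⟨fun h x hx => (mem_map_iff_mem hf).1 (h ⟨mem_map_of_mem f hx.1,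
    map_cent_le f _ (mem_map_of_mem f hx.2)⟩), ?_⟩
  rintro h _ ⟨⟨x, hx, rfl⟩, h1⟩
  exact mem_map_of_mem f (h ⟨hx, mem_cent_iff.2 fun y hy => hf (by
    simpa using mem_cent_iff.1 h1 _ (mem_map_of_mem f hy))⟩)

omit [Finite G] in
theorem map_subtype_norm (T : Subgroup H) : 𝐍(T).map H.subtype = H ⊓ 𝐍(T.map H.subtype) := by
  refine le_antisymm (le_inf (map_subtype_le _) (map_norm_le _ _)) fun x hx => ?_
  refine ⟨⟨x, hx.1⟩, mem_norm_iff.2 fun y => ?_, rfl⟩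
  rw [← mem_map_iff_mem H.subtype_injective, mem_norm_iff.1 hx.2,
    ← mem_map_iff_mem H.subtype_injective (K := T)]
  rfl

omit [Finite G] in
theorem charTwoType_iff : IsCharacteristicTwoType H ↔ 2 ∣ ♯H ∧ LocChar H := by
  refine and_congr even_iff_two_dvd ⟨fun h T hTH hT h0 => ?_, fun h T hT h0 => ?_⟩
  · have := h (T.subgroupOf H) (isPGroup_subgroupOf hT H) fun e => h0 (by
      rw [← map_subgroupOf_eq_of_le hTH, e, Subgroup.map_bot])
    rw [IsOfCharacteristicTwo, ← Core.isCharIn_iff, ← isCharIn_map H.subtype_injective,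
      map_subtype_norm, map_subgroupOf_eq_of_le hTH] at this
    exact this
  · rw [IsOfCharacteristicTwo, ← Core.isCharIn_iff, ← isCharIn_map H.subtype_injective,
      map_subtype_norm]
    exact h _ (map_subtype_le _) (hT.map _) fun e => h0 ((map_eq_bot_iff_of_injective _
      H.subtype_injective).1 e)

theorem Good.concl (h : Good S H K z) (hC : HC G) (hO : pPrimeCore 2 G = ⊥) (hS : Syl 2 S ⊤)
    (hz : z ∈ 𝐂(S)) (hz2 : orderOf z = 2) (hH : pResidual 2 G ≤ H)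
    (hR : 2 ∣ ♯(pResidual 2 G ⊓ S)) :
    (∃ M : Subgroup ↥(pResidual 2 G), IsStronglyEmbedded M) ∨ LocChar H := by
  by_cases h0 : K = ⊥
  · refine Or.inr (locChar_of_th hC hH fun t ht ht2 => ?_)
    obtain ⟨k, -, hk⟩ := h.cent t ht ht2
    simpa [h0] using hk
  refine Or.inl ⟨_, stronglyEmbedded_subgroupOf (M := 𝐍(K)) (fun h1 => h0 ?_)
    (hR.trans (card_dvd (inf_le_inf_left _ h.le))) fun g _ hg =>
      odd_inf_conj hS hz hz2 h.le h.fus (fun t ht ht2 => ?_) hg⟩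
  · obtain ⟨P, rfl⟩ := hS.exists_sylow_top
    have h2 : K ⊴ ⊤ := ⟨le_top, Transfer.pResidual_sup_sylow P ▸ sup_le h1 h.le⟩
    rw [eq_bot_iff, ← hO, ← Op'_top]
    exact le_Opi h2 ((piGrp_compl_singleton Nat.prime_two).2 h.odd)
  · obtain ⟨k, hk, -⟩ := h.cent t (hH ht) ht2
    exact ⟨k, hk⟩

end Cfsg.Agent.ZN
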