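import Mathlib
import Cfsg.Agent.Lib.ZN.Theta
import Cfsg.Agent.Lib.PGrp.MaxClass
import Cfsg.Agent.Lib.PGrp.RankOne

/-!
# ZC-groups: reduction to local characteristic two
-/

set_option autoImplicit false

namespace Cfsg.Agent.ZN

open Subgroup Cfsg.Agent.Coprime Cfsg.Agent.OO Cfsg.Agent.Sig
open scoped Pointwise

universe u

variable {G : Type u} [Group G] {A B C H K M Q S T W X : Subgroup G} {a b g s t w x y z : G}

theorem mul_mem_iff_of_relIndex_two (h : H.relIndex K = 2) (hx : x ∈ K) (hy : y ∈ K) :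
    x * y ∈ H ↔ (x ∈ H ↔ y ∈ H) :=
  mul_mem_iff_of_index_two (H := H.subgroupOf K) h (a := ⟨x, hx⟩) (b := ⟨y, hy⟩)

theorem sq_mem_of_relIndex_two (h : H.relIndex K = 2) (hx : x ∈ K) : x ^ 2 ∈ H := by
  rw [pow_two, mul_mem_iff_of_relIndex_two h hx hx]

theorem mul_self_of_inv (hz : orderOf z = 2) : z * z = 1 := by rw [← pow_two, sq_of_inv hz]

theorem inv_eq_of_inv (hz : orderOf z = 2) : z⁻¹ = z := inv_eq_of_mul_eq_one_right (mul_self_of_inv hz)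

variable [Finite G]

theorem mem_zpowers_inv (hz : orderOf z = 2) : x ∈ zpowers z ↔ x = 1 ∨ x = z := by
  classical
  rw [mem_zpowers_iff_mem_range_orderOf, hz]
  simp [Finset.range_add_one, or_comm]

theorem four_cases (hW : ♯W = 2 ^ 2) (hz : orderOf z = 2) (hzW : z ∈ W) (hx : x ∈ W) (hy : y ∈ W)
    (hx' : x ∉ zpowers z) (hy' : y ∉ zpowers z) : y = x ∨ y = x * z := by
  have h1 := card_mul_relIndex (zpowers_le.2 hzW)
  rw [Nat.card_zpowers, hz, hW] at h1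
  have h2 := (mul_mem_iff_of_relIndex_two (H := zpowers z) (by omega) (W.inv_mem hx) hy).2
    (by simp [hx', hy'])
  rcases (mem_zpowers_inv hz).1 h2 with h | h
  · exact Or.inl (inv_mul_eq_one.1 h).symm
  · exact Or.inr (by rw [← h]; group)

theorem mem_cent_of_four (hW : ♯W = 2 ^ 2) (hz : orderOf z = 2) (hzW : z ∈ W) (hw : w ∈ W)
    (hw' : w ∉ zpowers z) (h1 : s ∈ 𝐂[z]) (h2 : s * w * s⁻¹ = w) : s ∈ 𝐂(W) := by
  have h3 := mem_cent1_iff_conj.2 h2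
  rw [mem_cent1_comm] at h1 h3
  refine le_cent1_iff.1 fun x hx => ?_
  by_cases h : x ∈ zpowers z
  · exact zpowers_le.2 h1 h
  · rcases four_cases hW hz hzW hw hx hw' h with rfl | rfl
    exacts [h3, mul_mem h3 h1]

theorem r3_of_card (hA : IsElementaryAbelian 2 A) (hX : A ≤ X) (h : 2 ^ 2 < ♯A) : 2 < rp 2 X :=
  (Nat.pow_lt_pow_iff_right one_lt_two).1 (h.trans_le (card_le_pow_rp hX hA))

theorem conj_le_Zc (hT : Syl 2 T 𝐂[t]) (ht : t ∈ T) (hg : T ≤ g •ᶜ S) (hW : W ≤ Zc S)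
    (hp : IsPGroup 2 W) : g •ᶜ W ≤ Zc T := by
  have h1 : g •ᶜ W ≤ 𝐂(T) :=
    (conj_le_cent_conj.2 (hW.trans inf_le_right)).trans (cent_anti hg)
  exact le_inf (hT.le_of_norm (h1.trans (cent_le_cent1 ht)) (isPGroup_conj.2 hp)
    (Or.inr (le_norm_of_le_cent h1))) h1

theorem good_of_not_isCyclic (hC : HC G) (hS : Syl 2 S ⊤) (hnc : ¬ IsCyclic (Ohm 2 (Zc S)))
    (hr : 2 < rp 2 S) (hz : z ∈ 𝐂(S)) (hz2 : orderOf z = 2) (H : Subgroup G) :
    Good S H (KK (Ohm 2 (Zc S))) z := by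
  set Z := Ohm 2 (Zc S)
  have hZ : IsElementaryAbelian 2 Z := Ohm_abelem 2 (Zc_ab S)
  have hZS : Z ≤ Zc S := Ohm_le _ _
  have hN : 𝐍(S) ≤ 𝐍(KK Z) :=
    (norm_le_norm_Zc S).trans ((norm_le_norm_Ohm 2 _).trans (norm_le_norm_KK _))
  have key : ∀ t ∈ S, orderOf t = 2 → 𝐂[t] ≤ 𝐍(KK Z) ∧ th t ≤ KK Z := fun t ht ht2 => by
    have h1 : Z ≤ 𝐂[t] := hZS.trans (inf_le_right.trans (cent_le_cent1 ht))
    refine ⟨?_, th_le_KK hC ht2 hZ hnc h1⟩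
    obtain ⟨T, hT, h2⟩ := exists_syl_ge (inf_le_right : S ⊓ 𝐂[t] ≤ _)
      (hS.isPGroup.to_le inf_le_left)
    obtain ⟨g, -, hg⟩ := hS.exists_le_conj' le_top hT.isPGroup
    have h3 := conj_le_Zc hT (h2 ⟨ht, mem_cent1_self t⟩) hg hZS (abelem_isPGroup hZ)
    have h4 : ¬ IsCyclic (g •ᶜ Z : Subgroup G) := by rwa [isCyclic_conj]
    rw [← KK_eq_KK hC (abelem_conj.2 hZ) hZ h4 hnc (h3.trans (inf_le_right.trans (cent_anti
      ((le_inf (hZS.trans inf_le_left) h1).trans h2))))]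
    exact cent_le_norm_KK hC ht2 hT (abelem_conj.2 hZ) h4 h3
  refine ⟨?_, (le_norm_self S).trans hN, fun g hg => ?_, fun t _ ht => ?_⟩
  · obtain ⟨A, hA⟩ := exists_isEp (p := 2) (n := 3) hr
    rw [KK_eq_KK hC hZ hA.abelem hnc (hA.not_isCyclic (by norm_num))
      (hZS.trans (inf_le_right.trans (cent_anti hA.le)))]
    exact KK_odd hC hA.abelem hA.card.ge
  · have h1 : g •ᶜ S ≤ 𝐍(KK Z) := le_trans (by
      rw [cent1_conj]; exact conj_mono g (le_cent1_iff.2 hz)) (key _ hg (by rwa [orderOf_conj])).1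
    obtain ⟨m, hm, h2⟩ := (hS.mono ((le_norm_self S).trans hN) le_top).exists_conj'
      ((hS.conj_of_mem (mem_top g)).mono h1 le_top)
    have h3 : m⁻¹ * g ∈ 𝐍(S) := by
      rw [← conj_eq_self_iff, ← conj_conj, h2, conj_conj]; simp
    exact (Subgroup.mul_mem_cancel_left _ (inv_mem hm)).1 (hN h3)
  · obtain ⟨g, -, hg⟩ := hS.exists_conj_le le_top (isPGroup_zpowers_inv ht)
    have := key _ (hg (conj_mem_conj (mem_zpowers t))) (by rwa [orderOf_conj])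
    rw [cent1_conj, th_conj, conj_le_iff_le_inv_conj, conj_le_iff_le_inv_conj] at this
    exact ⟨g⁻¹, this⟩

/-- the center of the Sylow subgroup `S` has the unique involution `z`, and `C(z) ≤ N(S)` -/
structure ZC1 (S : Subgroup G) (z : G) : Prop where
  syl : Syl 2 S ⊤
  inv : orderOf z = 2
  mem : z ∈ S
  cent : z ∈ 𝐂(S)
  uniq : ∀ x ∈ Zc S, x ^ 2 = 1 → x ∈ zpowers z
  norm : 𝐂[z] ≤ 𝐍(S)

namespace ZC1

omit [Finite G] in
theorem conj (h : ZC1 S z) (g : G) : ZC1 (g •ᶜ S) (g * z * g⁻¹) :=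
  ⟨h.syl.conj_of_mem (mem_top g), by rw [orderOf_conj, h.inv], conj_mem_conj h.mem,
    by rw [cent_conj]; exact conj_mem_conj h.cent, fun x hx h2 => by
      rw [← conj_zpowers, mem_conj]
      rw [Zc_conj, mem_conj] at hx
      exact h.uniq _ hx (by rw [show (g⁻¹ * x * g) ^ 2 = g⁻¹ * x ^ 2 * g by
        simp [pow_two, mul_assoc], h2]; simp),
    by rw [cent1_conj, norm_conj]; exact conj_mono g h.norm⟩

omit [Finite G] in
theorem le_cent (h : ZC1 S z) : S ≤ 𝐂[z] := le_cent1_iff.2 h.cent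

theorem le_of_cent (h : ZC1 S z) (hQ : IsPGroup 2 Q) (h1 : Q ≤ 𝐂[z]) : Q ≤ S :=
  h.syl.le_of_norm le_top hQ (Or.inr (h1.trans h.norm))

theorem mem_of_cent (h : ZC1 S z) (hQ : IsPGroup 2 Q) (hx : x ∈ Q) (h1 : x ∈ 𝐂[z]) : x ∈ S :=
  h.le_of_cent (hQ.to_le (zpowers_le.2 hx)) (zpowers_le.2 h1) (mem_zpowers x)

theorem mem_conj (h : ZC1 S z) (hg : g * z * g⁻¹ ∈ S) : z ∈ g •ᶜ S :=
  (h.conj g).mem_of_cent h.syl.isPGroup h.mem (mem_cent1_comm.1 (h.le_cent hg))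

theorem good_th (h : ZC1 S z) (hC : HC G)
    (hc : ∀ t ∈ H, orderOf t = 2 → ∃ k, t = k * z * k⁻¹) : Good S H (th z) z := by
  have h1 : 𝐂[z] ≤ 𝐍(th z) := (Opi_normal _ _).norm
  refine ⟨th_odd z, h.le_cent.trans h1, fun g hg => ?_, fun t ht ht2 => ?_⟩
  · have h2 : th z ≤ 𝐂(S) := le_cent_of_coprime ((Opi_le _ _).trans h.norm) (h.le_cent.trans h1)
      (coprime_of_isPGroup h.syl.isPGroup (Op'_piGrp 2 _)).symm
    have h3 := (le_inf le_rfl (h2.trans (cent_le_cent1 hg))).trans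
      (th_bal hC h.inv (h.conj g).inv (mem_cent1_comm.1 (h.le_cent hg)))
    rw [th_conj, le_conj_iff_inv_conj_le] at h3
    exact inv_mem_iff.1 (mem_norm_of_conj_le h3)
  · obtain ⟨k, rfl⟩ := hc t ht ht2
    exact ⟨k, by rw [cent1_conj]; exact conj_mono k h1, (th_conj k z).le⟩

theorem mem_of_normal (h : ZC1 S z) (hW : W ⊴ S) (h0 : W ≠ ⊥) : z ∈ W := by
  obtain ⟨x, hx, h2⟩ := cauchy Nat.prime_two (dvd_card_of_isPGroup
    (h.syl.isPGroup.to_le (inf_le_left.trans hW.le)) (inf_Zc_ne_bot h.syl.nil hW h0))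
  rcases (mem_zpowers_inv h.inv).1 (h.uniq x hx.2 (sq_of_inv h2)) with e | e
  exacts [absurd e (ne_one_of_inv h2), e ▸ hx.1]

theorem conj_of_cyclic (h : ZC1 S z) (hC : C ≤ S) (hc : IsCyclic C) (hi : C.relIndex S = 2)
    (ht : t ∈ pResidual 2 G) (ht2 : orderOf t = 2) : ∃ k, t = k * z * k⁻¹ := by
  obtain ⟨g, hg⟩ := exists_conj_mem h.syl hC hi ht (sq_of_inv ht2)
  have h1 : orderOf (g * t * g⁻¹) = 2 := by rwa [orderOf_conj]
  have h2 := h.mem_of_normal (normal_of_relIndex_prime h.syl.isPGroup hC hi) fun e =>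
    ne_one_of_inv h1 (by simpa [e] using hg)
  have h3 := eq_of_isCyclic_of_card_eq hc (zpowers_le.2 hg) (zpowers_le.2 h2)
    (by rw [Nat.card_zpowers, Nat.card_zpowers, h1, h.inv])
  rcases (mem_zpowers_inv h.inv).1 (h3 ▸ mem_zpowers _) with e | e
  exacts [absurd e (ne_one_of_inv h1), ⟨g⁻¹, by rw [← e]; group⟩]

theorem four_mem (h : ZC1 S z) (hW : IsEp 2 2 W S) (hn : S ≤ 𝐍(W)) : z ∈ W :=
  h.mem_of_normal ⟨hW.le, hn⟩ (hW.ne_bot two_ne_zero)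

theorem four_conj (h : ZC1 S z) (hW : IsEp 2 2 W S) (hn : S ≤ 𝐍(W)) (hs : s ∈ S) (hs' : s ∉ 𝐂(W))
    (hw : w ∈ W) (hw' : w ∉ zpowers z) : s * w * s⁻¹ = w * z := by
  have hz := h.four_mem hW hn
  refine (four_cases hW.card h.inv hz hw (conj_mem_of_norm (hn hs) hw) hw' fun e => hw' ?_).resolve_left
    fun e => hs' (mem_cent_of_four hW.card h.inv hz hw hw' (h.le_cent hs) e)
  have h1 : s⁻¹ ∈ 𝐂(zpowers z) := by rw [cent_zpowers]; exact h.le_cent (inv_mem hs)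
  have := mem_cent_iff_conj.1 h1 _ e
  rw [show w = s * w * s⁻¹ by rw [← this]; group]; exact e

theorem exists_not_mem (h : ZC1 S z) (hW : IsEp 2 2 W S) : ∃ w ∈ W, w ∉ zpowers z := by
  by_contra! h1
  have := card_le (show W ≤ zpowers z from h1)
  rw [Nat.card_zpowers, h.inv, hW.card] at this
  omega

theorem four_index (h : ZC1 S z) (hW : IsEp 2 2 W S) (hn : S ≤ 𝐍(W)) :
    (S ⊓ 𝐂(W)).relIndex S = 2 := by
  have h1 := logn_quotient_cent_abelem hn hW.abelem hW.card.le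
  obtain ⟨n, hn⟩ := h.syl.isPGroup.exists_card_eq
  have h2 : (S ⊓ 𝐂(W)).relIndex S ∣ 2 ^ n := hn ▸ relIndex_dvd_card _ _
  obtain ⟨k, -, hk⟩ := (Nat.dvd_prime_pow Nat.prime_two).1 h2
  obtain _ | _ | k := k
  · obtain ⟨w, hw, hw'⟩ := h.exists_not_mem hW
    exact absurd (h.uniq w ⟨hW.le hw, le_cent_symm ((relIndex_eq_one.1 hk).trans inf_le_right) hw⟩
      (hW.abelem.2 w hw)) hw'
  · exact hk
  · exact absurd (hk ▸ pow_dvd_pow 2 (by omega)) h1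

theorem card_le_four (h : ZC1 S z) (hW : IsEp 2 2 W S) (hn : S ≤ 𝐍(W)) (hg : g * z * g⁻¹ ∈ S)
    (h1 : g * z * g⁻¹ ∉ 𝐂(W)) (h2 : z ∉ 𝐂(g •ᶜ W)) (hr : rp 2 (S ⊓ 𝐂[g * z * g⁻¹]) ≤ 2) :
    ♯(S ⊓ 𝐂[g * z * g⁻¹]) ≤ 2 ^ 2 := by
  have h' := h.conj g
  set z' := g * z * g⁻¹
  set D := S ⊓ 𝐂[z']
  have hzW : z ∈ 𝐂(W) := cent_anti hW.le h.cent
  have hzz : z' ∉ zpowers z := fun e => h1 (zpowers_le.2 hzW e)
  have hzD : z ∈ D := ⟨h.mem, mem_cent1_comm.1 (h.le_cent hg)⟩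
  have hB : IsEp 2 2 (zpowers z ⊔ zpowers z') D := (isEp_zpowers hzD h.inv).sup_two
    (isEp_zpowers ⟨hg, mem_cent1_self _⟩ h'.inv)
    (by rw [cent_zpowers, zpowers_le]; exact h.le_cent hg) fun e => hzz (e ▸ mem_zpowers _)
  have hDB : D ≤ 𝐂(zpowers z ⊔ zpowers z') := by
    rw [cent_sup, cent_zpowers, cent_zpowers]; exact inf_le_inf_right _ h.le_cent
  have hsq : ∀ x ∈ D, x ^ 2 ∈ 𝐂(W) := fun x hx =>
    (sq_mem_of_relIndex_two (h.four_index hW hn) hx.1).2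
  obtain ⟨w, hw, hw'⟩ := h'.exists_not_mem (hW.conj g)
  have hwz := h'.four_conj (hW.conj g) (conj_le_norm_conj.2 hn) (h.mem_conj hg) h2 hw hw'
  have hwS := (hW.conj g).le hw
  have hwz' : w⁻¹ * z * w = z' * z := by
    rw [mul_assoc, eq_mul_inv_of_mul_eq hwz]; group
  have hD : ∀ x ∈ D, x ^ 2 = 1 := fun x hx => by
    by_contra hx2
    obtain ⟨u, hu, hu2⟩ := cauchy Nat.prime_two (dvd_card_of_isPGroup
      (h.syl.isPGroup.to_le (zpowers_le.2 (pow_mem hx.1 2))) (zpowers_ne_bot.2 hx2))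
    obtain ⟨n, rfl⟩ := mem_zpowers_iff.1 hu
    have hy : x ^ n ∈ D := zpow_mem hx n
    have e : (x ^ 2) ^ n = (x ^ n) ^ 2 := by
      rw [← zpow_natCast, ← zpow_natCast, ← zpow_mul, ← zpow_mul, mul_comm]
    rw [e] at hu2
    set y := x ^ n
    have h3 : y ^ 2 = z := by
      have h4 := (hB.isMaxEp hr).mem_of_cent (pow_mem hy 2) (hDB (pow_mem hy 2)) (sq_of_inv hu2)
      by_cases h5 : y ^ 2 ∈ zpowers z
      · exact ((mem_zpowers_inv h.inv).1 h5).resolve_left (ne_one_of_inv hu2)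
      · rcases four_cases hB.card h.inv (mem_sup_left (mem_zpowers z))
          (mem_sup_right (mem_zpowers z')) h4 hzz h5 with e | e
        · exact absurd (e ▸ hsq y hy) h1
        · exact absurd ((Subgroup.mul_mem_cancel_right _ hzW).1 (e ▸ hsq y hy)) h1
    have h4 : w⁻¹ * y * w ∈ g •ᶜ S := mul_mem (mul_mem (inv_mem hwS)
      (h'.mem_of_cent h.syl.isPGroup hy.1 hy.2)) hwS
    have h5 : w⁻¹ * y * w ∈ 𝐂[z] := by
      have h6 : w⁻¹ * z * w ∈ 𝐂[w⁻¹ * y * w] := by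
        rw [← h3, mem_cent1, pow_two]; group
      rw [hwz', Subgroup.mul_mem_cancel_left _ (mem_cent1_comm.1 (h'.le_cent h4))] at h6
      exact mem_cent1_comm.1 h6
    have h6 := hsq _ ⟨h.mem_of_cent h'.syl.isPGroup h4 h5, h'.le_cent h4⟩
    rw [show (w⁻¹ * y * w) ^ 2 = w⁻¹ * y ^ 2 * w by simp [pow_two, mul_assoc], h3, hwz',
      Subgroup.mul_mem_cancel_right _ hzW] at h6
    exact h1 h6
  exact hB.card ▸ card_le fun x hx => (hB.isMaxEp hr).mem_of_cent hx (hDB hx) (hD x hx)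

end ZC1

theorem exists_cyclic_of_card (hS : IsPGroup 2 S) (ha : a ∈ S) (h : ♯(S ⊓ 𝐂[a]) ≤ 2 ^ 2)
    (hna : ¬ Ab S) : ∃ C ≤ S, IsCyclic C ∧ C.relIndex S = 2 := by
  obtain ⟨n, hn⟩ := hS.exists_card_eq
  have h1 : Nat.card (centralizer ({⟨a, ha⟩} : Set S)) ≤ 2 ^ 2 := by
    refine le_trans (Nat.card_le_card_of_injective
      (fun x => (⟨x.1.1, x.1.2, mem_cent1.2 (congrArg Subtype.val (mem_cent1.1 x.2))⟩ :
        ↥(S ⊓ 𝐂[a]))) fun x y e => Subtype.ext (Subtype.ext (Subtype.mk.inj e))) h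
  obtain ⟨n, rfl⟩ : ∃ m, n = m + 3 := by
    refine ⟨n - 3, by_contra fun h2 => hna ?_⟩
    obtain rfl | rfl | rfl : n = 0 ∨ n = 1 ∨ n = 2 := by omega
    · exact card_eq_one_iff.1 hn ▸ ab_bot
    · exact ab_of_isCyclic (isCyclic_of_prime (hn ▸ Nat.prime_two))
    · exact IsPGroup.isMulCommutative_of_card_eq_prime_sq hn
  obtain ⟨x, y, hxy⟩ := PGrp.dqs_of_maxClass hn
    (PGrp.nilpotencyClass_eq_of_card_centralizer_le (n + 1) hn _ h1)
  exact ⟨(zpowers x).map S.subtype, map_subtype_le _, by rw [MonoidHom.map_zpowers]; infer_instance,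
    by rw [relIndex_map_subtype, hxy.index]⟩

theorem exists_cyclic_or_four (hS : IsPGroup 2 S) (h0 : S ≠ ⊥) :
    (∃ C ≤ S, IsCyclic C ∧ C.relIndex S = 2) ∨ ∃ W, IsEp 2 2 W S ∧ S ≤ 𝐍(W) := by
  rcases PGrp.isCyclic_or_dqs_or_exists_normal_elemAb hS with h | ⟨-, n, x, y, h⟩ | ⟨E, h1, h2, h3⟩
  · obtain ⟨M, -, hM⟩ := exists_covBy_ge (bot_lt_iff_ne_bot.2 h0)
    exact Or.inl ⟨M, hM.le, isCyclic_of_le' h hM.le, relIndex_of_covBy hM hS⟩
  · exact Or.inl ⟨(zpowers x).map S.subtype, map_subtype_le _,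
      by rw [MonoidHom.map_zpowers]; infer_instance, by rw [relIndex_map_subtype, h.index]⟩
  · exact Or.inr ⟨E.map S.subtype, ⟨map_subtype_le _, abelem_map h2 _,
      by rw [card_map_of_injective S.subtype_injective, h3]⟩, (normalIn_map_subtype E).norm⟩

namespace ZC1

theorem tri (h : ZC1 S z) (hW : IsEp 2 2 W S) (hn : S ≤ 𝐍(W))
    (hnc : ¬ ∃ C ≤ S, IsCyclic C ∧ C.relIndex S = 2) (hg : g * z * g⁻¹ ∈ S) :
    g * z * g⁻¹ ∈ 𝐂(W) ∨ z ∈ 𝐂(g •ᶜ W) ∨ 2 < rp 2 (S ⊓ 𝐂[g * z * g⁻¹]) := by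
  by_contra! h1
  exact hnc (exists_cyclic_of_card h.syl.isPGroup hg (h.card_le_four hW hn hg h1.1 h1.2.1 h1.2.2)
    fun h2 => h1.1 (cent_anti hW.le (h2.le_cent hg)))

theorem card_inf_cent (h : ZC1 S z) (hW : IsEp 2 2 W S) (hn : S ≤ 𝐍(W)) (hA : IsEp 2 3 A S) :
    2 ^ 2 ≤ ♯(A ⊓ 𝐂(W)) := by
  have h1 := card_inf_mul_relIndex (𝐂(W)) A
  have h2 := Nat.le_of_dvd (relIndex_pos _ _) (relIndex_dvd_of_le_norm hA.le (le_norm_cent hn))
  have h3 := h.four_index hW hn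
  rw [inf_comm, inf_relIndex_right] at h3
  rw [hA.card, inf_comm] at h1
  rw [h3] at h2
  nlinarith

theorem rp_cent (h : ZC1 S z) (hW : IsEp 2 2 W S) (hn : S ≤ 𝐍(W)) (hr : 2 < rp 2 S) :
    2 < rp 2 (S ⊓ 𝐂(W)) := by
  obtain ⟨A, hA⟩ := exists_isEp (p := 2) (n := 3) hr
  by_cases h1 : W ≤ A
  · exact (hA.of_le (le_inf hA.le (hA.le_cent.trans (cent_anti h1)))).le_rp
  · exact r3_of_card (abelem_sup (abelem_of_le hA.abelem inf_le_left) hW.abelem inf_le_right)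
      (sup_le (inf_le_inf_right _ hA.le) (le_inf hW.le hW.le_cent))
      ((h.card_inf_cent hW hn hA).trans_lt (card_lt (left_lt_sup.2 fun h2 =>
        h1 (h2.trans inf_le_left))))

theorem rp_cent1 (h : ZC1 S z) (hW : IsEp 2 2 W S) (hn : S ≤ 𝐍(W)) (hr : 2 < rp 2 S)
    (ht : t ∈ S) (ht2 : orderOf t = 2) (h1 : t ∈ 𝐂(W)) : 2 < rp 2 (S ⊓ 𝐂[t]) := by
  by_cases h2 : t ∈ W
  · exact (h.rp_cent hW hn hr).trans_le (rp_mono 2 (inf_le_inf_left _ (cent_le_cent1 h2)))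
  · exact ((hW.of_le (le_inf hW.le (le_cent1_iff.2 h1))).sup_one
      (isEp_zpowers ⟨ht, mem_cent1_self t⟩ ht2) (zpowers_le.2 h1) (by rwa [zpowers_le])).le_rp

theorem KK_eq (h : ZC1 S z) (hC : HC G) (hW : IsEp 2 2 W S) (hn : S ≤ 𝐍(W)) (hA : IsEp 2 3 A S) :
    KK A = KK W := by
  have h1 := abelem_of_le hA.abelem (inf_le_left : A ⊓ 𝐂(W) ≤ A)
  have h2 := not_isCyclic_of_card h1 (lt_of_lt_of_le (by norm_num) (h.card_inf_cent hW hn hA))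
  rw [KK_eq_KK hC hA.abelem h1 (hA.not_isCyclic (by norm_num)) h2
    (hA.le_cent.trans (cent_anti inf_le_left)),
    KK_eq_KK hC h1 hW.abelem h2 (hW.not_isCyclic le_rfl) inf_le_right]

theorem good_KK (h : ZC1 S z) (hC : HC G) (hW : IsEp 2 2 W S) (hn : S ≤ 𝐍(W))
    (hnc : ¬ ∃ C ≤ S, IsCyclic C ∧ C.relIndex S = 2) (hr : 2 < rp 2 S) :
    Good S (pResidual 2 G) (KK W) z := by
  have fus : ∀ g, g * z * g⁻¹ ∈ S → g ∈ 𝐍(KK W) := fun g hg => by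
    have h' := h.conj g
    have h1 : S ⊓ 𝐂[g * z * g⁻¹] ≤ S ⊓ g •ᶜ S :=
      le_inf inf_le_left (h'.le_of_cent (h.syl.isPGroup.to_le inf_le_left) inf_le_right)
    have h2 : 2 < rp 2 (S ⊓ g •ᶜ S) := by
      rcases h.tri hW hn hnc hg with h3 | h3 | h3
      · exact (h.rp_cent1 hW hn hr hg h'.inv h3).trans_le (rp_mono 2 h1)
      · exact (h'.rp_cent1 (hW.conj g) (conj_le_norm_conj.2 hn) (by rwa [rp_conj]) (h.mem_conj hg)
          h.inv h3).trans_le (rp_mono 2 (le_inf (h.le_of_cent (h'.syl.isPGroup.to_le inf_le_left)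
            inf_le_right) inf_le_left))
      · exact h3.trans_le (rp_mono 2 h1)
    obtain ⟨A, hA⟩ := exists_isEp (p := 2) (n := 3) h2
    rw [← conj_eq_self_iff, ← KK_conj, ← h.KK_eq hC hW hn (hA.mono inf_le_left),
      h'.KK_eq hC (hW.conj g) (conj_le_norm_conj.2 hn) (hA.mono inf_le_right)]
  refine ⟨?_, hn.trans (norm_le_norm_KK W), fus, fun t ht ht2 => ?_⟩
  · obtain ⟨A, hA⟩ := exists_isEp (p := 2) (n := 3) hr
    exact h.KK_eq hC hW hn hA ▸ KK_odd hC hA.abelem hA.card.ge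
  obtain ⟨g, hg⟩ := exists_conj_mem h.syl inf_le_left (h.four_index hW hn) ht (sq_of_inv ht2)
  have h1 : orderOf (g * t * g⁻¹) = 2 := by rwa [orderOf_conj]
  suffices 𝐂[g * t * g⁻¹] ≤ 𝐍(KK W) ∧ th (g * t * g⁻¹) ≤ KK W by
    rw [cent1_conj, th_conj, conj_le_iff_le_inv_conj, conj_le_iff_le_inv_conj] at this
    exact ⟨g⁻¹, this⟩
  generalize g * t * g⁻¹ = u at hg h1
  have h2 : W ≤ 𝐂[u] := le_cent1_iff.2 hg.2
  refine ⟨?_, th_le_KK hC h1 hW.abelem (hW.not_isCyclic le_rfl) h2⟩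
  obtain ⟨T, hT, h3⟩ := exists_syl_ge (inf_le_right : S ⊓ 𝐂[u] ≤ _)
    (h.syl.isPGroup.to_le inf_le_left)
  obtain ⟨k, -, hk⟩ := h.syl.exists_le_conj' le_top hT.isPGroup
  have hu : u ∈ T := h3 ⟨hg.1, mem_cent1_self u⟩
  have h4 := conj_le_Zc hT hu hk (zpowers_le.2 ⟨h.mem, h.cent⟩) (isPGroup_zpowers_inv h.inv)
  rw [conj_zpowers] at h4
  by_cases e : zpowers u = zpowers (k * z * k⁻¹)
  · have h5 : k⁻¹ ∈ 𝐍(KK W) := fus _ (by
      simpa using OO.mem_conj.1 (hk (h3 ⟨h.mem, mem_cent1_comm.1 (h.le_cent hg.1)⟩)))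
    rw [← cent_zpowers, e, cent_zpowers, cent1_conj]
    exact conj_le_of_mem (inv_mem_iff.1 h5) fun c hc => fus c (by
      rw [mem_cent1_iff_conj.1 hc]; exact h.mem)
  · have hu' : u ∈ Zc T := ⟨hu, le_cent1_iff.1 hT.le⟩
    have h5 := (isEp_zpowers hu' h1).sup_two (isEp_zpowers (h4 (mem_zpowers _)) (h.conj k).inv)
      (h4.trans (inf_le_right.trans (cent_anti (zpowers_le.2 hu)))) e
    rw [← KK_eq_KK hC h5.abelem hW.abelem (h5.not_isCyclic le_rfl) (hW.not_isCyclic le_rfl)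
      (h5.le.trans (inf_le_right.trans (cent_anti ((le_inf hW.le h2).trans h3))))]
    exact cent_le_norm_KK hC h1 hT h5.abelem (h5.not_isCyclic le_rfl) h5.le

theorem conj_of_rp (h : ZC1 S z) (hW : IsEp 2 2 W S) (hn : S ≤ 𝐍(W))
    (hnc : ¬ ∃ C ≤ S, IsCyclic C ∧ C.relIndex S = 2) (hr : rp 2 S ≤ 2) (hg : g * z * g⁻¹ ∈ S)
    (hg' : g * z * g⁻¹ ∉ zpowers z) (ht : t ∈ pResidual 2 G) (ht2 : orderOf t = 2) :
    ∃ k, t = k * z * k⁻¹ := by
  have hm := hW.isMaxEp hr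
  obtain ⟨k, hk, hk'⟩ : ∃ k, k * z * k⁻¹ ∈ W ∧ k * z * k⁻¹ ∉ zpowers z := by
    rcases h.tri hW hn hnc hg with h3 | h3 | h3
    · exact ⟨g, hm.mem_of_cent hg h3 (sq_of_inv (h.conj g).inv), hg'⟩
    · refine ⟨g⁻¹, by simpa using OO.mem_conj.1 ((hm.conj g).mem_of_cent (h.mem_conj hg) h3
        (sq_of_inv h.inv)), fun e => hg' ?_⟩
      rcases (mem_zpowers_inv h.inv).1 e with e | e
      · exact absurd e (ne_one_of_inv (h.conj g⁻¹).inv)
      · rw [show g * z * g⁻¹ = z by nth_rw 1 [← e]; group]; exact mem_zpowers z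
    · exact absurd (h3.trans_le (rp_mono 2 inf_le_left)) (by omega)
  obtain ⟨l, hl⟩ := exists_conj_mem h.syl inf_le_left (h.four_index hW hn) ht (sq_of_inv ht2)
  have h1 : orderOf (l * t * l⁻¹) = 2 := by rwa [orderOf_conj]
  have h2 := hm.mem_of_cent hl.1 hl.2 (sq_of_inv h1)
  by_cases h3 : l * t * l⁻¹ ∈ zpowers z
  · exact ⟨l⁻¹, by rw [← ((mem_zpowers_inv h.inv).1 h3).resolve_left (ne_one_of_inv h1)]; group⟩
  rcases four_cases hW.card h.inv (h.four_mem hW hn) hk h2 hk' h3 with e | e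
  · exact ⟨l⁻¹ * k, by rw [show t = l⁻¹ * (l * t * l⁻¹) * l by group, e]; group⟩
  · obtain ⟨s, hs, hs'⟩ : ∃ s ∈ S, s ∉ 𝐂(W) := by
      by_contra! h4
      have := h.four_index hW hn
      rw [inf_eq_left.2 h4, relIndex_self] at this
      omega
    rw [← h.four_conj hW hn hs hs' hk hk'] at e
    exact ⟨l⁻¹ * s * k, by rw [show t = l⁻¹ * (l * t * l⁻¹) * l by group, e]; group⟩

theorem good_or (h : ZC1 S z) (hC : HC G) : (∀ g, g * z * g⁻¹ ∈ S → g * z * g⁻¹ ∈ zpowers z) ∨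
    ∃ K, Good S (pResidual 2 G) K z := by
  by_cases hc : ∃ C ≤ S, IsCyclic C ∧ C.relIndex S = 2
  · obtain ⟨C, h1, h2, h3⟩ := hc
    exact Or.inr ⟨_, h.good_th hC fun _ => h.conj_of_cyclic h1 h2 h3⟩
  obtain ⟨W, hW, hn⟩ := (exists_cyclic_or_four h.syl.isPGroup fun e =>
    ne_one_of_inv h.inv (by simpa [e] using h.mem)).resolve_left hc
  by_cases hr : 2 < rp 2 S
  · exact Or.inr ⟨_, h.good_KK hC hW hn hc hr⟩
  refine or_iff_not_imp_left.2 fun h1 => ?_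
  push Not at h1
  obtain ⟨g, hg, hg'⟩ := h1
  exact ⟨_, h.good_th hC fun _ => h.conj_of_rp hW hn hc (by omega) hg hg'⟩

end ZC1

theorem dvd_card_residual (he : Even (Nat.card G)) (hO' : pPrimeCore 2 G = ⊥) (hO : pCore 2 G = ⊥)
    (hS : Syl 2 S ⊤) : 2 ∣ ♯(pResidual 2 G ⊓ S) := by
  have hn : pResidual 2 G ⊴ ⊤ := normalIn_top.2 inferInstance
  rw [(hS.normal_inf hn).dvd_card_iff]
  by_contra h
  have h1 := le_Opi hn ((piGrp_compl_singleton Nat.prime_two).2 h)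
  obtain ⟨P, rfl⟩ := hS.exists_sylow_top
  have h2 := Transfer.pResidual_sup_sylow P
  rw [eq_bot_iff.2 (h1.trans (Op'_top.trans hO').le), bot_sup_eq] at h2
  have h3 := le_Op (NormalIn.refl ⊤) (h2 ▸ P.isPGroup')
  rw [Op_top, hO, le_bot_iff, ← card_eq_one_iff, card_top] at h3
  rw [h3] at he; exact absurd he (by decide)

/-- Kurzweil–Stellmacher 12.1 -/
theorem zc_main (hC : HC G) (he : Even (Nat.card G)) (hO' : pPrimeCore 2 G = ⊥)
    (hO : pCore 2 G = ⊥) (hS : Syl 2 S ⊤) (hZ : 𝐂(Ohm 2 (Zc S)) ≤ 𝐍(S)) :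
    (∃ M : Subgroup ↥(pResidual 2 G), IsStronglyEmbedded M) ∨
    (♯(Ohm 2 (Zc S) ⊓ pResidual 2 G) = 2 ∧ ∀ h ∈ pResidual 2 G, ∀ z ∈ Ohm 2 (Zc S) ⊓ pResidual 2 G,
      h * z * h⁻¹ ∈ S → h * z * h⁻¹ ∈ Ohm 2 (Zc S)) ∨
    (♯(Ohm 2 (Zc S)) = 4 ∧ Ohm 2 (S ⊓ pResidual 2 G) = Ohm 2 (Zc S)) ∨
    LocChar (pResidual 2 G ⊔ Ohm 2 (Zc S)) := by
  have hR := dvd_card_residual he hO' hO hS
  set Z := Ohm 2 (Zc S) with hZdef
  have hZa : IsElementaryAbelian 2 Z := Ohm_abelem 2 (Zc_ab S)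
  have hZS : Z ≤ Zc S := Ohm_le _ _
  obtain ⟨z, hz, hz2⟩ := cauchy Nat.prime_two (dvd_card_of_isPGroup
    (hS.isPGroup.to_le (inf_le_right.trans (Zc_le S))) (inf_Zc_ne_bot hS.nil
      ((normalIn_top.2 (inferInstance : (pResidual 2 G).Normal)).inf_right le_top)
      (ne_bot_of_prime_dvd Nat.prime_two hR)))
  have hzZ : z ∈ Z := mem_Ohm hz.2 (sq_of_inv hz2)
  by_cases hc : IsCyclic Z
  · have e : zpowers z = Z := eq_of_le_of_card_le (zpowers_le.2 hzZ) (by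
      rw [Nat.card_zpowers, hz2]; exact not_lt.1 fun h => not_isCyclic_of_card hZa h hc)
    have hZH : Z ≤ pResidual 2 G := e ▸ zpowers_le.2 hz.1.1
    have h : ZC1 S z := ⟨hS, hz2, hz.1.2, hz.2.2, fun x hx h2 => e ▸ mem_Ohm hx h2,
      by rwa [← cent_zpowers, e]⟩
    rcases h.good_or hC with h1 | ⟨K, hK⟩
    · refine Or.inr (Or.inl ⟨by rw [inf_eq_left.2 hZH, ← e, Nat.card_zpowers, hz2],
        fun g _ x hx h2 => ?_⟩)
      rcases (mem_zpowers_inv hz2).1 (e ▸ hx.1) with rfl | rfl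
      · simp
      · exact e ▸ h1 g h2
    · rw [sup_eq_left.2 hZH]
      exact (hK.concl hC hO' hS hz.2.2 hz2 le_rfl hR).imp_right fun h => Or.inr (Or.inr h)
  by_cases hr : 2 < rp 2 S
  · exact ((good_of_not_isCyclic hC hS hc hr hz.2.2 hz2 _).concl hC hO' hS hz.2.2 hz2 le_sup_left
      hR).imp_right fun h => Or.inr (Or.inr h)
  obtain ⟨n, hn⟩ := exists_isEp_of_abelem hZa (hZS.trans (Zc_le S))
  obtain rfl : n = 2 := le_antisymm (hn.le_rp.trans (by omega)) (by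
    by_contra! h1
    exact hc ((isCyclic_iff_rp_of_ab hn.isPGroup hn.ab).2 (by rw [hn.rp_eq]; omega)))
  have hm : ∀ x ∈ S, x ^ 2 = 1 → x ∈ Z := fun x hx h2 => (hn.isMaxEp (by omega)).mem_of_cent hx
    (le_cent_symm (hZS.trans inf_le_right) hx) h2
  by_cases hZH : Z ≤ pResidual 2 G
  · exact Or.inr (Or.inr (Or.inl ⟨hn.card, le_antisymm (Ohm_le_iff.2 fun x hx => hm x hx.1)
      (le_Ohm (le_inf hn.le hZH) hZa)⟩))
  · refine Or.inr (Or.inl ⟨(hn.one_of_lt_two (inf_lt_left.2 hZH) fun e => ne_one_of_inv hz2 ?_).card_one,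
      fun g _ x hx h2 => hm _ h2 (by rw [conj_pow, hZa.2 x hx.1]; simp)⟩)
    exact mem_bot.1 (e ▸ ⟨hzZ, hz.1.1⟩)

end Cfsg.Agent.ZN
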