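import Mathlib
import Cfsg.Agent.Lib.ZN.ZC

/-!
# Groups `P` of characteristic two with `P / O₂(P) ≅ S₃`
-/

set_option autoImplicit false

namespace Cfsg.Agent.ZN

open Subgroup Cfsg.Agent.Coprime Cfsg.Agent.OO
open scoped Pointwise

universe u

variable {G : Type u} [Group G] {A B N P T T' X Y : Subgroup G} {a g h u x : G}

/-- `P / O₂(P) ≅ S₃` with Sylow subgroup `T`, characteristic two, `[P, ΩZ(T)] ≠ 1` -/
structure Par (T P : Subgroup G) : Prop where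
  syl : Syl 2 T P
  idx : T.relIndex P = 3
  idx2 : (Op 2 P).relIndex T = 2
  char : P ⊓ 𝐂(Op 2 P) ≤ Op 2 P
  ncent : ¬ P ≤ 𝐂(Ohm 2 (Zc T))

/-- `Z_P = ⟨ΩZ(T) : T ∈ Syl₂(P)⟩` -/
def ZZ (P : Subgroup G) : Subgroup G := ⨆ T, ⨆ (_ : Syl 2 T P), Ohm 2 (Zc T)

theorem le_ZZ (h : Syl 2 T P) : Ohm 2 (Zc T) ≤ ZZ P :=
  le_iSup₂_of_le (f := fun T (_ : Syl 2 T P) => Ohm 2 (Zc T)) T h le_rfl

theorem ZZ_le (h : ∀ T, Syl 2 T P → Ohm 2 (Zc T) ≤ X) : ZZ P ≤ X := iSup₂_le h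

theorem conj_ZZ_le (g : G) (P : Subgroup G) : g •ᶜ ZZ P ≤ ZZ (g •ᶜ P) := by
  rw [conj_le_iff_le_inv_conj]
  refine ZZ_le fun T hT => ?_
  rw [← conj_le_iff_le_inv_conj, ← Ohm_conj, ← Zc_conj]
  exact le_ZZ (hT.conj g)

theorem ZZ_conj (g : G) (P : Subgroup G) : ZZ (g •ᶜ P) = g •ᶜ ZZ P := by
  refine le_antisymm ?_ (conj_ZZ_le g P)
  rw [le_conj_iff_inv_conj_le]
  simpa [conj_conj] using conj_ZZ_le g⁻¹ (g •ᶜ P)

theorem norm_le_norm_ZZ (P : Subgroup G) : 𝐍(P) ≤ 𝐍(ZZ P) := fun g hg => by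
  rw [← conj_eq_self_iff, ← ZZ_conj, conj_eq_of_mem_norm hg]

theorem le_norm_ZZ (P : Subgroup G) : P ≤ 𝐍(ZZ P) := (le_norm_self P).trans (norm_le_norm_ZZ P)

theorem le_of_relIndex_two (hi : A.relIndex B = 2) (hX : A ≤ X) (hu : u ∈ B) (hu' : u ∉ A)
    (huX : u ∈ X) : B ≤ X := fun x hx => by
  by_cases h : x ∈ A
  · exact hX h
  · exact (X.mul_mem_cancel_right huX).1 (hX ((mul_mem_iff_of_relIndex_two hi hx hu).2
      (by simp [h, hu'])))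

theorem commutator_mem_of_relIndex_two (hi : A.relIndex B = 2) (h1 : g ∈ 𝐍(A)) (h2 : g ∈ 𝐍(B))
    (hu : u ∈ B) : g * u * g⁻¹ * u⁻¹ ∈ A := by
  rw [mul_mem_iff_of_relIndex_two hi (conj_mem_of_norm h2 hu) (inv_mem hu), inv_mem_iff,
    ← mem_norm_iff.1 h1]

variable [Finite G]

theorem ZZ_le_Zc (hc : P ⊓ 𝐂(Op 2 P) ≤ Op 2 P) : ZZ P ≤ Ohm 2 (Zc (Op 2 P)) :=
  ZZ_le fun T hT => by
    have h1 : Zc T ≤ 𝐂(Op 2 P) := inf_le_right.trans (cent_anti (Op_le_syl hT))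
    exact Ohm_mono 2 (le_inf ((le_inf (inf_le_left.trans hT.le) h1).trans hc) h1)

theorem ZZ_abelem (hc : P ⊓ 𝐂(Op 2 P) ≤ Op 2 P) : IsElementaryAbelian 2 (ZZ P) :=
  abelem_of_le (Ohm_abelem 2 (Zc_ab _)) (ZZ_le_Zc hc)

namespace Par

omit [Finite G] in
theorem conj (h : Par T P) (g : G) : Par (g •ᶜ T) (g •ᶜ P) :=
  ⟨h.syl.conj g, by rw [relIndex_conj, h.idx], by rw [Op_conj, relIndex_conj, h.idx2],
    by rw [Op_conj, cent_conj, ← conj_inf]; exact conj_mono g h.char,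
    by rw [Zc_conj, Ohm_conj, conj_le_cent_conj]; exact h.ncent⟩

omit [Finite G] in
theorem conj_of_mem (h : Par T P) (hg : g ∈ P) : Par (g •ᶜ T) P := by
  simpa [conj_eq_of_mem hg] using h.conj g

omit [Finite G] in
theorem le (h : Par T P) : T ≤ P := h.syl.le

theorem Q_le (h : Par T P) : Op 2 P ≤ T := Op_le_syl h.syl

theorem max (h : Par T P) (hX : T ≤ X) (hg : g ∈ P) (hg' : g ∉ T) (hgX : g ∈ X) : P ≤ X := by
  have h1 := covBy_of_relIndex_prime h.le (h.idx ▸ Nat.prime_three)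
  rcases h1.eq_or_eq (le_inf hX h.le) inf_le_right with e | e
  · exact absurd (e ▸ (⟨hgX, hg⟩ : g ∈ X ⊓ P)) hg'
  · exact inf_eq_right.1 e

theorem max' (h : Par T P) (hX : T ≤ X) (hY : Y ≤ P) (hY' : ¬ Y ≤ T) (hYX : Y ≤ X) : P ≤ X := by
  obtain ⟨g, hg, hg'⟩ := SetLike.not_le_iff_exists.1 hY'
  exact h.max hX (hY hg) hg' (hYX hg)

omit [Finite G] in
theorem le_Q (h : Par T P) (hN : N ≤ T) (hn : P ≤ 𝐍(N)) : N ≤ Op 2 P :=
  le_Op ⟨hN.trans h.le, hn⟩ (h.syl.isPGroup.to_le hN)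

omit [Finite G] in
theorem not_le_Q (h : Par T P) : ¬ T ≤ Op 2 P := fun e => by
  have := h.idx2; rw [relIndex_eq_one.2 e] at this; omega

omit [Finite G] in
theorem exists_not_mem_Q (h : Par T P) : ∃ u ∈ T, u ∉ Op 2 P := SetLike.not_le_iff_exists.1 h.not_le_Q

omit [Finite G] in
theorem exists_not_mem (h : Par T P) : ∃ g ∈ P, g ∉ T := SetLike.not_le_iff_exists.1 fun e => by
  have := h.idx; rw [relIndex_eq_one.2 e] at this; omega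

omit [Finite G] in
theorem le_of (h : Par T P) (hX : Op 2 P ≤ X) (hu : u ∈ T) (hu' : u ∉ Op 2 P) (huX : u ∈ X) :
    T ≤ X := le_of_relIndex_two h.idx2 hX hu hu' huX

omit [Finite G] in
theorem le_of' (h : Par T P) (hX : Op 2 P ≤ X) (hY : Y ≤ T) (hY' : ¬ Y ≤ Op 2 P) (hYX : Y ≤ X) :
    T ≤ X := by
  obtain ⟨u, hu, hu'⟩ := SetLike.not_le_iff_exists.1 hY'
  exact h.le_of hX (hY hu) hu' (hYX hu)

theorem inf_le (h : Par T P) (h' : Par T' P) (hne : T ≠ T') : T ⊓ T' ≤ Op 2 P := fun _ hu => by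
  by_contra hu'
  exact hne (h.syl.eq_of_le_syl h'.syl (h.le_of h'.Q_le hu.1 hu' hu.2))

theorem conj_ne (h : Par T P) (hg : g ∈ P) (hg' : g ∉ T) : g •ᶜ T ≠ T := fun e =>
  h.not_le_Q (h.le_Q le_rfl (h.max (le_norm_self T) hg hg' (conj_eq_self_iff.1 e)))

theorem inf_conj_le (h : Par T P) (hg : g ∈ P) (hg' : g ∉ T) : T ⊓ g •ᶜ T ≤ Op 2 P :=
  h.inf_le (h.conj_of_mem hg) (h.conj_ne hg hg').symm

theorem gen (h : Par T P) (h' : Par T' P) (hne : T ≠ T') (hX : T ≤ X) (hY : Y ≤ T')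
    (hY' : ¬ Y ≤ Op 2 P) (hYX : Y ≤ X) : P ≤ X :=
  h.max' hX (hY.trans h'.le) (fun e => hY' ((le_inf e hY).trans (h.inf_le h' hne))) hYX

theorem Z_le (h : Par T P) : ZZ P ≤ Op 2 P := (ZZ_le_Zc h.char).trans ((Ohm_le _ _).trans inf_le_left)

theorem Q_le_cent (h : Par T P) : Op 2 P ≤ 𝐂(ZZ P) :=
  le_cent_symm ((ZZ_le_Zc h.char).trans ((Ohm_le _ _).trans inf_le_right))

theorem Z_abelem (h : Par T P) : IsElementaryAbelian 2 (ZZ P) := ZZ_abelem h.char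

theorem cent_Z (h : Par T P) : P ⊓ 𝐂(ZZ P) ≤ Op 2 P := by
  refine h.le_Q ?_ (normalIn_inf_cent (le_norm_ZZ P)).norm
  by_contra e
  exact h.ncent (h.max' (le_cent_symm ((Ohm_le _ _).trans inf_le_right)) inf_le_left e
    (inf_le_right.trans (cent_anti (le_ZZ h.syl))))

theorem le_Q_of_cent (h : Par T P) (hY : Y ≤ P) (hc : Y ≤ 𝐂(ZZ P)) : Y ≤ Op 2 P :=
  (le_inf hY hc).trans h.cent_Z

theorem Z_ne_bot (h : Par T P) : ZZ P ≠ ⊥ := fun e =>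
  h.not_le_Q (h.le_Q_of_cent h.le (by rw [e]; exact le_cent_symm bot_le))

theorem cosets (hP : Par T P) (hg : g ∈ P) (hg' : g ∉ T) (hu : u ∈ T) (hu' : u ∉ Op 2 P)
    (hh : h ∈ P) : h ∈ T ∨ g⁻¹ * h ∈ T ∨ (u * g)⁻¹ * h ∈ T := by
  classical
  by_contra! hc
  have h3 : Nat.card (P ⧸ T.subgroupOf P) = 3 := hP.idx
  have hug := P.mul_mem (hP.le hu) hg
  have ne : ∀ a b : P, (a : G)⁻¹ * b ∉ T →
      (QuotientGroup.mk a : P ⧸ T.subgroupOf P) ≠ QuotientGroup.mk b := fun a b hab e =>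
    hab (mem_subgroupOf.1 (QuotientGroup.eq.1 e))
  have h4 : ({QuotientGroup.mk 1, QuotientGroup.mk ⟨g, hg⟩, QuotientGroup.mk ⟨u * g, hug⟩,
      QuotientGroup.mk ⟨h, hh⟩} : Finset (P ⧸ T.subgroupOf P)).card = 4 := by
    rw [Finset.card_eq_four]
    refine ⟨_, _, _, _, ne _ _ (by simpa using hg'), ne _ _ ?_, ne _ _ (by simpa using hc.1),
      ne _ _ fun e => hu' (hP.inf_conj_le hg hg' ⟨hu, mem_conj.2 (by simpa [mul_assoc] using e)⟩),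
      ne _ _ hc.2.1, ne _ _ hc.2.2, rfl⟩
    simpa [T.mul_mem_cancel_left hu] using hg'
  have := Fintype.ofFinite (P ⧸ T.subgroupOf P)
  have h5 := Finset.card_le_univ ({QuotientGroup.mk 1, QuotientGroup.mk ⟨g, hg⟩,
    QuotientGroup.mk ⟨u * g, hug⟩, QuotientGroup.mk ⟨h, hh⟩} : Finset (P ⧸ T.subgroupOf P))
  rw [h4, ← Nat.card_eq_fintype_card, h3] at h5
  omega

end Par

end Cfsg.Agent.ZN
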