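import Mathlib
import Cfsg.Agent.Lib.ZN.Par

/-!
# Amalgams of type `(S₃, S₃)` with non-central `ΩZ(T)` (Kurzweil–Stellmacher 10.3.11)
-/

set_option autoImplicit false

namespace Cfsg.Agent.ZN

open Subgroup Cfsg.Agent.Coprime Cfsg.Agent.OO
open scoped Pointwise

universe u

variable {G : Type u} [Group G] {A A' B C N P Q T T' T₁ X Y Z : Subgroup G} {a c g u x : G}

/-- an edge of the coset graph -/
structure Edge (A B : Subgroup G) : Prop where
  left : Par (A ⊓ B) A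
  right : Par (A ⊓ B) B
  triv : ∀ N ≤ A ⊓ B, A ≤ 𝐍(N) → B ≤ 𝐍(N) → N = ⊥

/-- a critical pair -/
structure CP (T A T' B : Subgroup G) : Prop where
  left : Par T A
  right : Par T' B
  le1 : ZZ A ≤ T'
  le2 : ZZ B ≤ T
  crit : ¬ ZZ A ≤ Op 2 B

/-- `O₂(A) ∩ O₂(C)` is normal in `A` -/
def DN (A C : Subgroup G) : Prop := A ≤ 𝐍(Op 2 A ⊓ Op 2 C)

theorem Edge.symm (h : Edge A B) : Edge B A :=
  ⟨inf_comm A B ▸ h.right, inf_comm A B ▸ h.left, fun N h1 h2 h3 => h.triv N (inf_comm A B ▸ h1) h3 h2⟩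

theorem Edge.conj (h : Edge A B) (g : G) : Edge (g •ᶜ A) (g •ᶜ B) :=
  ⟨conj_inf g A B ▸ h.left.conj g, conj_inf g A B ▸ h.right.conj g, fun N h1 h2 h3 => by
    rw [← conj_inf, le_conj_iff_inv_conj_le] at h1
    rw [conj_le_iff_le_inv_conj, ← norm_conj] at h2 h3
    simpa using conj_eq_iff_eq_inv_conj.1 (h.triv _ h1 h2 h3)⟩

theorem DN.conj (h : DN A C) (g : G) : DN (g •ᶜ A) (g •ᶜ C) := by
  rw [DN, Op_conj, Op_conj, ← conj_inf, conj_le_norm_conj]; exact h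

theorem DN.inf_eq (h : DN A C) (ha : a ∈ A) : Op 2 A ⊓ Op 2 (a •ᶜ C) = Op 2 A ⊓ Op 2 C := by
  rw [← conj_eq_of_mem_norm (h ha), conj_inf, Op_conj, (Op_normal 2 A).conj_eq ha]

theorem DN.conj_right (h : DN A C) (ha : a ∈ A) : DN A (a •ᶜ C) := by
  rw [DN, h.inf_eq ha]; exact h

theorem mho_eq (hi : Q.relIndex T = 2) (hX : X ≤ T) (hZ : Z ≤ X) (hZQ : ¬ Z ≤ Q) (hZc : X ≤ 𝐂(Z))
    (hZ2 : IsElementaryAbelian 2 Z) : Mho 2 1 X = Mho 2 1 (X ⊓ Q) := by
  refine le_antisymm (Mho_one_le_iff.2 fun x hx => ?_) (Mho_mono 2 1 inf_le_left)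
  by_cases h : x ∈ Q
  · exact pow_mem_Mho_one 2 ⟨hx, h⟩
  obtain ⟨z, hz, hz'⟩ := SetLike.not_le_iff_exists.1 hZQ
  have h1 := pow_mem_Mho_one 2 (mem_inf.2 ⟨X.mul_mem hx (hZ hz),
    (mul_mem_iff_of_relIndex_two hi (hX hx) (hX (hZ hz))).2 (by simp [h, hz'])⟩)
  rwa [Commute.mul_pow (mem_cent_iff.1 (hZc hx) z hz).symm, hZ2.2 z hz, mul_one] at h1

theorem abelem_of_sq (h : ∀ x ∈ X, x ^ 2 = 1) : IsElementaryAbelian 2 X :=
  ⟨ab_iff.2 fun x hx y hy => by
    have e : ∀ x ∈ X, x⁻¹ = x := fun x hx => inv_eq_of_mul_eq_one_right (by rw [← pow_two, h x hx])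
    rw [← e _ (X.mul_mem hx hy), mul_inv_rev, e x hx, e y hy], h⟩

theorem abelem_of_mho (h : Mho 2 1 X = ⊥) : IsElementaryAbelian 2 X :=
  abelem_of_sq fun _ hx => mem_bot.1 (h ▸ pow_mem_Mho_one 2 hx)

variable [Finite G]

theorem relIndex_two_of_le (hi : Q.relIndex T = 2) (hn : T ≤ 𝐍(Q)) (hX : X ≤ T) (h : ¬ X ≤ Q) :
    Q.relIndex X = 2 :=
  ((Nat.dvd_prime Nat.prime_two).1 (hi ▸ relIndex_dvd_of_le_norm hX hn)).resolve_left
    fun e => h (relIndex_eq_one.1 e)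

namespace Edge

theorem Q_le (h : Edge A B) : Op 2 A ≤ B := h.left.Q_le.trans inf_le_right

theorem not_le (h : Edge A B) : ¬ Op 2 A ≤ Op 2 B := fun e => by
  have h1 : Op 2 B ≤ Op 2 A := by
    by_contra h1
    exact h.right.not_le_Q (h.left.le_of' e h.right.Q_le h1 le_rfl)
  have h2 := h.triv _ h.left.Q_le (Op_normal 2 A).norm (le_antisymm h1 e ▸ (Op_normal 2 B).norm)
  exact h.left.Z_ne_bot (eq_bot_iff.2 (h2 ▸ h.left.Z_le))

theorem idx (h : Edge A B) : (Op 2 A ⊓ Op 2 B).relIndex (Op 2 A) = 2 := by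
  rw [inf_comm, inf_relIndex_right]
  exact relIndex_two_of_le h.right.idx2 (inf_le_right.trans (Op_normal 2 B).norm) h.left.Q_le h.not_le

end Edge

namespace CP

theorem not_cent (h : CP T A T' B) : ¬ ZZ A ≤ 𝐂(ZZ B) := fun e =>
  h.crit (h.right.le_Q_of_cent (h.le1.trans h.right.le) e)

theorem symm (h : CP T A T' B) : CP T' B T A :=
  ⟨h.right, h.left, h.le2, h.le1, fun e => h.not_cent (le_cent_symm (e.trans h.left.Q_le_cent))⟩

theorem ne_bot (h : CP T A T' B) : ⁅ZZ A, ZZ B⁆ ≠ ⊥ := fun e => h.not_cent (commutator_eq_bot_iff.1 e)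

omit [Finite G] in
theorem le_inf (h : CP T A T' B) : ⁅ZZ A, ZZ B⁆ ≤ ZZ A ⊓ ZZ B :=
  commutator_le_inf' ((h.le2.trans h.left.le).trans (le_norm_ZZ A))
    ((h.le1.trans h.right.le).trans (le_norm_ZZ B))

theorem le_cent (h : CP T A T' B) : T' ≤ 𝐂(⁅ZZ A, ZZ B⁆) :=
  h.right.le_of' (h.right.Q_le_cent.trans (cent_anti (h.le_inf.trans inf_le_right))) h.le1 h.crit
    ((abelem_le_cent h.left.Z_abelem).trans (cent_anti (h.le_inf.trans inf_le_left)))

theorem le_cent' (h : CP T A T' B) : T ≤ 𝐂(⁅ZZ A, ZZ B⁆) := by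
  rw [Subgroup.commutator_comm]; exact h.symm.le_cent

theorem comm_eq (h : CP T A T' B) : ⁅T', ZZ B⁆ = ⁅ZZ A, ZZ B⁆ := by
  refine le_antisymm ((commutator_mono (h.right.le_of' le_sup_right h.le1 h.crit le_sup_left)
    le_rfl).trans (commutator_sup_le (le_norm_of_le_cent ((sup_le h.le1 h.right.Q_le).trans h.le_cent))
      le_rfl ?_)) (commutator_mono h.le1 le_rfl)
  rw [commutator_eq_bot_iff.2 h.right.Q_le_cent]; exact bot_le

theorem le_norm (h : CP T A T' B) (hX : X ≤ T') : ZZ B ≤ 𝐍(X ⊔ ZZ A) :=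
  le_norm_of_commutator_le le_rfl ((commutator_mono (sup_le hX h.le1) le_rfl).trans
    (h.comm_eq.le.trans (h.le_inf.trans (inf_le_left.trans le_sup_right))))

theorem dn (h : CP T A T' B) (h1 : Par T₁ A) (h2 : Par T₁ C) (hne : T₁ ≠ T) (h3 : ZZ C ≤ T') :
    DN A C := by
  have h4 : A ≤ 𝐍(ZZ C ⊔ ZZ A) := h1.gen h.left hne (le_norm_sup (h2.le.trans (le_norm_ZZ C))
    (h1.le.trans (le_norm_ZZ A))) h.le2 h.symm.crit (h.le_norm h3)
  have h5 : Op 2 A ⊓ Op 2 C = Op 2 A ⊓ 𝐂(ZZ C ⊔ ZZ A) := le_antisymm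
    (_root_.le_inf inf_le_left (le_cent_sup (inf_le_right.trans h2.Q_le_cent)
      (inf_le_left.trans h1.Q_le_cent)))
    (_root_.le_inf inf_le_left (h2.le_Q_of_cent (inf_le_left.trans (h1.Q_le.trans h2.le))
      (inf_le_right.trans (cent_anti le_sup_left))))
  rw [DN, h5]
  exact le_norm_inf (Op_normal 2 A).norm (le_norm_cent h4)

end CP

theorem Edge.one (h : Edge A B) (hc : ¬ ZZ A ≤ Op 2 B) :
    IsElementaryAbelian 2 (Op 2 A) ∧ IsElementaryAbelian 2 (Op 2 B) := by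
  have h1 : CP (A ⊓ B) A (A ⊓ B) B := ⟨h.left, h.right, h.left.Z_le.trans h.left.Q_le,
    h.right.Z_le.trans h.right.Q_le, hc⟩
  have h2 := mho_eq h.right.idx2 h.left.Q_le h.left.Z_le hc h.left.Q_le_cent h.left.Z_abelem
  have h3 := mho_eq h.left.idx2 h.right.Q_le h.right.Z_le h1.symm.crit h.right.Q_le_cent
    h.right.Z_abelem
  rw [inf_comm, ← h2] at h3
  have h4 := h.triv _ ((Mho_le 2 1 _).trans h.left.Q_le) ((Op_normal 2 A).Mho 2 1).norm
    (h3 ▸ ((Op_normal 2 B).Mho 2 1).norm)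
  exact ⟨abelem_of_mho h4, abelem_of_mho (h3.trans h4)⟩

theorem Edge.two (h : Edge A B) (ha : a ∈ B) (hZ : ZZ A ≤ Op 2 B) (hc : ¬ ZZ A ≤ Op 2 (a •ᶜ A)) :
    B ≤ 𝐍(Mho 2 1 (Op 2 A ⊓ Op 2 B)) ∧ Mho 2 1 (Op 2 A ⊓ Op 2 B) ≠ ⊥ := by
  have h' : Edge (a •ᶜ A) B := by simpa [conj_eq_of_mem ha] using h.conj a
  have hQ := (Op_normal 2 B).conj_eq ha
  have hZ' : ZZ (a •ᶜ A) ≤ Op 2 B := by rw [ZZ_conj, ← hQ]; exact conj_mono a hZ
  have hp : CP (A ⊓ B) A (a •ᶜ A ⊓ B) (a •ᶜ A) :=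
    ⟨h.left, h'.left, hZ.trans h'.right.Q_le, hZ'.trans h.right.Q_le, hc⟩
  have hD : a •ᶜ (Op 2 A ⊓ Op 2 B) = Op 2 (a •ᶜ A) ⊓ Op 2 B := by rw [conj_inf, hQ, Op_conj]
  have haA : a ∉ A ⊓ B := fun e => hc (by rw [conj_eq_of_mem e.1]; exact h.left.Z_le)
  have h2 := mho_eq h'.left.idx2 (inf_le_right.trans h'.right.Q_le) (le_inf h.left.Z_le hZ) hc
    (inf_le_left.trans h.left.Q_le_cent) h.left.Z_abelem
  have h3 := mho_eq h.left.idx2 (inf_le_right.trans h.right.Q_le) (le_inf h'.left.Z_le hZ')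
    hp.symm.crit (inf_le_left.trans h'.left.Q_le_cent) h'.left.Z_abelem
  rw [show Op 2 (a •ᶜ A) ⊓ Op 2 B ⊓ Op 2 A = Op 2 A ⊓ Op 2 B ⊓ Op 2 (a •ᶜ A) by ac_rfl, ← h2, ← hD,
    Mho_conj] at h3
  refine ⟨h.right.max ((le_norm_inf (inf_le_left.trans (Op_normal 2 A).norm) (inf_le_right.trans
    (Op_normal 2 B).norm)).trans (norm_le_norm_Mho 2 1 _)) ha haA (conj_eq_self_iff.1 h3),
    fun h0 => ?_⟩
  have h4 := abelem_of_mho h0
  have h5 : IsElementaryAbelian 2 (Op 2 (a •ᶜ A) ⊓ Op 2 B) := hD ▸ abelem_conj.2 h4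
  set D := Op 2 A ⊓ Op 2 B
  set D' := Op 2 (a •ᶜ A) ⊓ Op 2 B
  have iD : D.relIndex (Op 2 B) = 2 := by have := h.symm.idx; rwa [inf_comm] at this
  have iD' : D'.relIndex (Op 2 B) = 2 := by have := h'.symm.idx; rwa [inf_comm] at this
  obtain ⟨u, hu, hu'⟩ := SetLike.not_le_iff_exists.1 h.not_le
  have huB := h.Q_le hu
  have hun := (Op_normal 2 B).norm huB
  have iD'' : (u •ᶜ D').relIndex (Op 2 B) = 2 := by
    rw [← conj_eq_of_mem_norm hun, relIndex_conj, iD']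
  obtain ⟨z, hz, h6⟩ := SetLike.not_le_iff_exists.1 hp.not_cent
  obtain ⟨w, hw, hzw⟩ : ∃ w ∈ ZZ (a •ᶜ A), w * z ≠ z * w := by
    by_contra! h7; exact h6 (mem_cent_iff.2 h7)
  have hw' : w ∉ Op 2 A := fun e => hzw (mem_cent_iff.1 (h.left.Q_le_cent e) z hz).symm
  have hwD : w ∈ D' := ⟨h'.left.Z_le hw, hZ' hw⟩
  have hY : D ⊓ D' ≤ u •ᶜ D' := by
    have h7 : Op 2 B ≤ 𝐂(D ⊓ D') := le_of_relIndex_two iD ((abelem_le_cent h4).trans
      (cent_anti inf_le_left)) (hZ' hw) (fun e => hw' e.1)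
      (cent_anti inf_le_right (abelem_le_cent h5 hwD))
    rw [le_conj_iff_inv_conj_le]
    have h8 : u⁻¹ •ᶜ (D ⊓ D') ≤ Zc (Op 2 B) := conj_le_of_mem_norm
      (norm_le_norm_Zc _ (inv_mem hun)) (le_inf (inf_le_left.trans inf_le_right) (le_cent_symm h7))
    exact le_inf (h'.left.le_Q_of_cent (h8.trans (inf_le_left.trans h'.symm.Q_le))
      (h8.trans (inf_le_right.trans (cent_anti hZ')))) (h8.trans inf_le_left)
  have h7 : z ∉ u •ᶜ D' := fun e => by
    have := (mem_conj.1 e).1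
    rw [mul_assoc, mem_cent_iff.1 (h.left.Q_le_cent hu) z hz, inv_mul_cancel_left] at this
    exact h6 (h'.left.Q_le_cent this)
  have h8 : w ∉ u •ᶜ D' := fun e => by
    have h9 : D' ≤ u •ᶜ D' := le_of_relIndex_two (A := D ⊓ D') (by
      rw [inf_relIndex_right]
      exact relIndex_two_of_le iD (le_norm_inf (h.symm.Q_le.trans (Op_normal 2 A).norm)
        (le_norm_self _)) inf_le_right fun e => hw' (e hwD).1) hY hwD (fun e => hw' e.1.1) e
    have h10 : u ∈ 𝐍(D') := inv_mem_iff.1 (mem_norm_of_conj_le (le_conj_iff_inv_conj_le.1 h9))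
    have h11 : u ∉ a •ᶜ A ⊓ B := fun e => hu' (h.right.inf_le h'.right (fun e' => h.right.conj_ne ha haA
      (by rw [conj_inf, conj_eq_of_mem ha, e'])) ⟨h.left.Q_le hu, e⟩)
    have h12 := h'.right.max (le_norm_inf (inf_le_left.trans (Op_normal 2 _).norm)
      (inf_le_right.trans (Op_normal 2 B).norm)) huB h11 h10
    have h13 := conj_eq_of_mem_norm (h12 (inv_mem ha))
    rw [← conj_eq_iff_eq_inv_conj.1 hD] at h13
    exact hw' (h13 ▸ hwD : w ∈ D).1
  have h9 := (abelem_conj.2 h5).2 _ ((mul_mem_iff_of_relIndex_two iD'' (hZ' hw) (hZ hz)).2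
    (by simp [h7, h8]))
  have e1 := inv_eq_of_mul_eq_one_right ((pow_two _).symm.trans h9)
  rw [mul_inv_rev, inv_eq_of_mul_eq_one_right ((pow_two _).symm.trans (h.left.Z_abelem.2 z hz)),
    inv_eq_of_mul_eq_one_right ((pow_two _).symm.trans (h'.left.Z_abelem.2 w hw))] at e1
  exact hzw e1.symm

/-- a path in the coset graph of an amalgam violating the theorem -/
structure Path (f : ℤ → Subgroup G) : Prop where
  edge : ∀ i, Edge (f i) (f (i + 1))
  bad : ∀ i, ¬ (IsElementaryAbelian 2 (Op 2 (f i)) ∧ IsElementaryAbelian 2 (Op 2 (f (i + 1))))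
  conj : ∀ i, ∃ a ∈ f (i + 1), f (i + 2) = a •ᶜ f i

/-- replace the left half of a path by a conjugate of the right half -/
def refl (f : ℤ → Subgroup G) (c : ℤ) (a : G) (i : ℤ) : Subgroup G :=
  if c ≤ i then f i else a •ᶜ f (2 * c - i)

/-- `b` is at most the parameter of the amalgam -/
def MinB (G : Type u) [Group G] (b : ℤ) : Prop :=
  ∀ f : ℤ → Subgroup G, Path f → ∀ i j, i - j < b → j - i < b → ZZ (f i) ≤ Op 2 (f j)

variable {f : ℤ → Subgroup G} {b i j k : ℤ}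

omit [Finite G] in
theorem refl_ge (h : k ≤ i) : refl f k a i = f i := if_pos h

omit [Finite G] in
theorem refl_le (ha : a ∈ f k) (e : i + j = 2 * k) (h : i ≤ k) : refl f k a i = a •ᶜ f j := by
  rw [refl]; split_ifs with h1
  · obtain rfl : i = k := by omega
    rw [show j = i by omega, conj_eq_of_mem ha]
  · rw [show j = 2 * k - i by omega]

namespace Path

omit [Finite G] in
theorem edge' (h : Path f) (i j : ℤ) (e : j = i + 1 := by omega) : Edge (f i) (f j) := e ▸ h.edge i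

omit [Finite G] in
theorem conj' (h : Path f) (i j k : ℤ) (e : j = i + 1 := by omega) (e' : k = i + 2 := by omega) :
    ∃ a ∈ f j, f k = a •ᶜ f i := e ▸ e' ▸ h.conj i

omit [Finite G] in
theorem conj'' (h : Path f) (i j k : ℤ) (e : j = i + 1 := by omega) (e' : k = i + 2 := by omega) :
    ∃ a ∈ f j, f i = a •ᶜ f k := by
  obtain ⟨a, ha, h1⟩ := h.conj' i j k
  exact ⟨a⁻¹, inv_mem ha, conj_eq_iff_eq_inv_conj.1 h1.symm⟩

omit [Finite G] in
theorem bad' (h : Path f) (i j : ℤ) (e : j = i + 1 := by omega) :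
    ¬ (IsElementaryAbelian 2 (Op 2 (f i)) ∧ IsElementaryAbelian 2 (Op 2 (f j))) := e ▸ h.bad i

omit [Finite G] in
theorem shift (h : Path f) (c : ℤ) : Path fun i => f (i + c) :=
  ⟨fun _ => h.edge' _ _, fun _ => h.bad' _ _, fun _ => h.conj' _ _ _⟩

omit [Finite G] in
theorem rev (h : Path f) (c : ℤ) : Path fun i => f (c - i) :=
  ⟨fun _ => (h.edge' _ _).symm, fun _ e => h.bad' _ _ (by omega) e.symm, fun _ => h.conj'' _ _ _⟩

omit [Finite G] in
theorem smul (h : Path f) (g : G) : Path fun i => g •ᶜ f i :=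
  ⟨fun i => (h.edge i).conj g, fun i => by simpa only [Op_conj, abelem_conj] using h.bad i,
    fun i => by
      obtain ⟨a, ha, e⟩ := h.conj i
      exact ⟨g * a * g⁻¹, conj_mem_conj ha, by rw [e, conj_conj, conj_conj, inv_mul_cancel_right]⟩⟩

omit [Finite G] in
theorem refl (h : Path f) (ha : a ∈ f k) : Path (refl f k a) := by
  have h' := (h.rev (2 * k)).smul a
  have e : ∀ i ≤ k, ZN.refl f k a i = a •ᶜ f (2 * k - i) := fun i hi => refl_le ha (by omega) hi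
  refine ⟨fun i => ?_, fun i => ?_, fun i => ?_⟩
  · by_cases hi : k ≤ i
    · rw [refl_ge hi, refl_ge (by omega)]; exact h.edge i
    · rw [e _ (by omega), e _ (by omega)]; exact h'.edge i
  · by_cases hi : k ≤ i
    · rw [refl_ge hi, refl_ge (by omega)]; exact h.bad i
    · rw [e _ (by omega), e _ (by omega)]; exact h'.bad i
  · by_cases hi : k ≤ i
    · rw [refl_ge hi, refl_ge (by omega), refl_ge (by omega)]; exact h.conj i
    by_cases hi' : i + 2 ≤ k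
    · rw [e _ (by omega), e _ (by omega), e i (by omega)]; exact h'.conj i
    · rw [refl_ge (by omega), refl_ge (by omega), refl_le ha (j := i + 2) (by omega) (by omega),
        show i + 1 = k by omega]
      exact ⟨a⁻¹, inv_mem ha, by simp⟩

theorem cp (h : Path f) (hm : MinB G b) (i i' j' j : ℤ) (hc : ¬ ZZ (f i) ≤ Op 2 (f j))
    (hb : 0 < b := by omega) (e : j = i + b := by omega) (e1 : i' = i + 1 := by omega)
    (e2 : j = j' + 1 := by omega) : CP (f i ⊓ f i') (f i) (f j' ⊓ f j) (f j) :=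
  ⟨(h.edge' i i').left, (h.edge' j' j).right,
    (hm f h i j' (by omega) (by omega)).trans (h.edge' j' j).left.Q_le,
    (hm f h j i' (by omega) (by omega)).trans (h.edge' i i').right.Q_le, hc⟩

omit [Finite G] in
theorem dn_succ (h : Path f) (hd : DN (f i) (f (i - 1))) : DN (f (i + 2)) (f (i + 2 - 1)) := by
  obtain ⟨a, ha, e⟩ := h.conj' (i - 1) i (i + 1)
  obtain ⟨c, hc, e'⟩ := h.conj i
  have := (hd.conj_right ha).conj c
  rwa [← e, ← e', conj_eq_of_mem hc, show i + 1 = i + 2 - 1 by omega] at this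

omit [Finite G] in
theorem dn_even (h : Path f) (hd : DN (f 0) (f (-1))) (n : ℕ) :
    Op 2 (f (2 * n)) ⊓ Op 2 (f (2 * n - 1)) ≤ Op 2 (f (2 * n + 1)) := by
  have : DN (f (2 * n)) (f (2 * n - 1)) := by
    induction n with
    | zero => exact hd
    | succ n ih => simpa [mul_add] using h.dn_succ ih
  obtain ⟨a, ha, e⟩ := h.conj' (2 * n - 1) (2 * n) (2 * n + 1)
  rw [e, ← this.inf_eq ha]
  exact inf_le_right

theorem nn (h : Path f) (hm : MinB G b) (hb : 3 ≤ b) (hc : ¬ ZZ (f 0) ≤ Op 2 (f b))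
    (hnd : f (-1) ⊓ f 0 ≠ f 0 ⊓ f 1) :
    ∃ c ∈ f (-1), c ∉ f 0 ∧ ZZ (c •ᶜ f 0) ≤ Op 2 (f (b - 2)) := by
  by_contra! h1
  have hE := h.edge' (-1) 0
  have key : ∀ c ∈ f (-1), c ∉ f 0 → CP (c •ᶜ (f (-1) ⊓ f 0)) (c •ᶜ f 0) (f (b - 3) ⊓ f (b - 2))
      (f (b - 2)) := fun c hc hc' => by
    have e1 : ZN.refl f (-1) c (-2) = c •ᶜ f 0 := refl_le hc (by omega) (by omega)
    have e2 : ZN.refl f (-1) c (b - 2) = f (b - 2) := refl_ge (by omega)
    have := (h.refl hc).cp hm (-2) (-1) (b - 3) (b - 2) (by rw [e1, e2]; exact h1 c hc hc')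
    rwa [e1, e2, refl_ge (by omega), refl_ge (by omega), ← conj_eq_of_mem hc, ← conj_inf,
      inf_comm] at this
  obtain ⟨c, hc1, hc2⟩ := hE.left.exists_not_mem
  obtain ⟨u, hu, hu'⟩ := hE.left.exists_not_mem_Q
  have hc3 : c ∉ f 0 := fun e => hc2 ⟨hc1, e⟩
  have k1 := key c hc1 hc3
  have k2 := key (u * c) (mul_mem hu.1 hc1) (by rwa [Subgroup.mul_mem_cancel_left _ hu.2])
  have hp := h.cp hm 0 1 (b - 1) b hc
  have h2 := k2.le_cent'
  rw [← k2.comm_eq, k1.comm_eq, ← conj_conj] at h2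
  have hT := hE.left.conj_of_mem hc1
  have h3 := hT.max' k1.le_cent' (hT.conj_of_mem hu.1).le (fun e => hT.conj_ne hu.1
    (fun e => hu' (hE.left.inf_conj_le hc1 hc2 ⟨hu, e⟩))
      ((hT.conj_of_mem hu.1).syl.eq_of_le_syl hT.syl e)) h2
  refine k1.ne_bot (hE.triv _ ?_ (le_norm_of_le_cent h3) (le_norm_of_le_cent
    (hE.right.gen hp.left hnd (inf_le_left.trans h3) hp.le2 hp.symm.crit ?_)))
  · refine k1.le_inf.trans (inf_le_left.trans (le_trans ?_ hE.left.Q_le))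
    rw [ZZ_conj]
    exact conj_le_of_mem_norm ((Op_normal 2 _).norm hc1) (hm f h _ _ (by omega) (by omega))
  · exact (hm f h _ _ (by omega) (by omega)).trans (k1.right.Q_le_cent.trans
      (cent_anti (k1.le_inf.trans inf_le_right)))

theorem aa (h : Path f) (hm : MinB G b) (hb : 3 ≤ b) (hc : ¬ ZZ (f 0) ≤ Op 2 (f b))
    (hnd : f (-1) ⊓ f 0 ≠ f 0 ⊓ f 1) (hA : ZZ (f (-1)) ≤ Op 2 (f (b - 1))) : False := by
  have hE := h.edge' (-1) 0
  have hp := h.cp hm 0 1 (b - 1) b hc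
  have hE' := h.edge' (b - 1) b
  have hd := hp.dn hE.right hE.left hnd (hA.trans hE'.left.Q_le)
  obtain ⟨n, e | e⟩ : ∃ n : ℕ, b = 2 * n + 1 ∨ b = 2 * n + 2 := ⟨(b.toNat - 1) / 2, by omega⟩
  · exact hc (e ▸ (le_inf (hm f h _ _ (by omega) (by omega)) (hm f h _ _ (by omega) (by omega))).trans
      (h.dn_even hd n))
  obtain ⟨c, hc1, hc2, h1⟩ := h.nn hm hb hc hnd
  have h2 : ZZ (c •ᶜ f 0) ≤ f (b - 1) ⊓ f b := by
    have := hm _ (h.refl hc1) (-2) (2 * n - 1) (by omega) (by omega)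
    rw [refl_le hc1 (j := 0) (by omega) (by omega), refl_ge (by omega)] at this
    rw [show b - 2 = 2 * n by omega] at h1
    refine le_trans ?_ hE'.left.Q_le
    rw [show b - 1 = 2 * n + 1 by omega]
    exact (le_inf h1 this).trans (h.dn_even hd n)
  have h3 := hp.le_norm h2
  set U := ZZ (c •ᶜ f 0) ⊔ ZZ (f 0)
  have h4 : Op 2 (f (-1)) ≤ 𝐍(U) := le_norm_sup (le_trans (by
    rw [← (Op_normal 2 _).conj_eq hc1]; exact conj_mono c hE.Q_le) (le_norm_ZZ _))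
    (hE.Q_le.trans (le_norm_ZZ _))
  obtain ⟨u, hu, hu'⟩ := SetLike.not_le_iff_exists.1 hE.symm.not_le
  have huT := hE.right.Q_le hu
  have h5 : ∀ k ∈ f (-1), k •ᶜ ZZ (f 0) ≤ U ⊔ u •ᶜ U := fun k hk => by
    rcases hE.left.cosets hc1 (fun e => hc2 e.2) huT hu' hk with e | e | e
    · rw [conj_eq_of_mem_norm (le_norm_ZZ _ e.2)]; exact le_sup_right.trans le_sup_left
    · rw [← mul_inv_cancel_left c k, ← conj_conj, conj_eq_of_mem_norm (le_norm_ZZ _ e.2), ← ZZ_conj]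
      exact le_sup_left.trans le_sup_left
    · rw [← mul_inv_cancel_left (u * c) k, ← conj_conj, conj_eq_of_mem_norm (le_norm_ZZ _ e.2),
        ← conj_conj, ← ZZ_conj]
      exact (conj_mono u le_sup_left).trans le_sup_right
  have h6 : f (-1) ≤ 𝐍(U ⊔ u •ᶜ U) := fun k hk => mem_norm_of_conj_le (by
    have hku := mul_mem hk huT.1
    simp only [U, conj_sup, conj_conj, ZZ_conj]
    exact sup_le (sup_le (h5 _ (mul_mem hk hc1)) (h5 _ hk))
      (sup_le (by rw [← mul_assoc]; exact h5 _ (mul_mem hku hc1)) (h5 _ hku)) |>.trans (by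
        simp only [U, conj_sup, conj_conj, ZZ_conj]; rfl))
  have h7 : ZZ (f b) ≤ 𝐍(u •ᶜ U) := fun y hy => by
    have hy0 := (f 0).inv_mem (hp.le2 hy).1
    have := commutator_mem_of_relIndex_two hE.symm.idx (hd hy0) ((Op_normal 2 _).norm hy0) (inv_mem hu)
    rw [norm_conj, mem_conj]
    convert mul_mem (h3 hy) (h4 this.2) using 1; group
  have h8 : U ≤ Op 2 (f (-1)) := sup_le (by
    rw [ZZ_conj]
    exact conj_le_of_mem_norm ((Op_normal 2 _).norm hc1) (hm f h _ _ (by omega) (by omega)))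
    (hm f h _ _ (by omega) (by omega))
  have h9 := hE.triv _ ((sup_le h8 (conj_le_of_mem_norm ((Op_normal 2 _).norm huT.1) h8)).trans
    hE.left.Q_le) h6 (hE.right.gen hp.left hnd (inf_le_left.trans h6) hp.le2 hp.symm.crit
      (le_norm_sup h3 h7))
  exact hE.right.Z_ne_bot (eq_bot_iff.2 (h9 ▸ le_sup_right.trans le_sup_left))

theorem exists_nd (h : Path f) (k : ℤ) (hc : c ∈ f k) (hc' : c ∉ f (k + 1)) :
    ZN.refl f k c (k - 1) ⊓ ZN.refl f k c k ≠ ZN.refl f k c k ⊓ ZN.refl f k c (k + 1) := by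
  rw [refl_le hc (j := k + 1) (by omega) (by omega), refl_ge le_rfl, refl_ge (by omega)]
  have := (h.edge k).left.conj_ne hc fun e => hc' e.2
  rwa [conj_inf, conj_eq_of_mem hc, inf_comm] at this

theorem false_of_crit (h : Path f) (hm : MinB G b) (hb : 0 ≤ b) (hc : ¬ ZZ (f 0) ≤ Op 2 (f b)) :
    False := by
  obtain rfl | rfl | hb : b = 0 ∨ b = 1 ∨ 2 ≤ b := by omega
  · exact hc (h.edge 0).left.Z_le
  · exact h.bad' 0 1 (by omega) ((h.edge' 0 1).one hc)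
  obtain ⟨a, ha, ha'⟩ := (h.edge 0).left.exists_not_mem
  have hnd := h.exists_nd 0 ha fun e => ha' ⟨ha, e⟩
  have h' := h.refl ha
  rw [← refl_ge (f := f) (a := a) (k := 0) le_rfl, ← refl_ge (f := f) (a := a) (k := 0) (i := b)
    (by omega)] at hc
  generalize ZN.refl f 0 a = f at h' hnd hc
  obtain rfl | hb : b = 2 ∨ 3 ≤ b := by omega
  · have hE := h'.edge' 0 1
    obtain ⟨c, hc1, e⟩ := h'.conj' 0 1 2
    obtain ⟨d, hd, e'⟩ := h'.conj' (-1) 0 1
    have h1 := hE.two hc1 (hm f h' _ _ (by omega) (by omega)) (e ▸ hc)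
    refine h1.2 (hE.triv _ ((Mho_le 2 1 _).trans (inf_le_left.trans hE.left.Q_le)) ?_ h1.1)
    by_cases hA : ZZ (f (-1)) ≤ Op 2 (f 1)
    · have := ((h'.cp hm 0 1 1 2 hc).dn (h'.edge' (-1) 0).right (h'.edge' (-1) 0).left hnd
        (hA.trans (h'.edge' 1 2).left.Q_le)).conj_right hd
      exact (e' ▸ this).trans (norm_le_norm_Mho 2 1 _)
    · have := conj_mono d ((h'.edge' (-1) 0).two hd (hm f h' _ _ (by omega) (by omega)) (e' ▸ hA)).1
      rwa [conj_eq_of_mem hd, ← norm_conj, ← Mho_conj, conj_inf, ← Op_conj, ← e',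
        (Op_normal 2 _).conj_eq hd, inf_comm] at this
  by_cases hA : ZZ (f (-1)) ≤ Op 2 (f (b - 1))
  · exact h'.aa hm hb hc hnd hA
  obtain ⟨c, hc1, hc2, h1⟩ := h'.nn hm hb hc hnd
  refine ((h'.refl hc1).shift (-1)).aa hm hb ?_ (h'.exists_nd (-1) hc1 hc2) ?_
  · rw [refl_ge (by omega), refl_ge (by omega)]; exact hA
  · rw [refl_le hc1 (j := 0) (by omega) (by omega), refl_ge (by omega),
      show b - 1 + -1 = b - 2 by omega]
    exact h1

end Path

/-- Kurzweil–Stellmacher 10.3.11 -/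
theorem Edge.abelem (h : Edge A B) :
    IsElementaryAbelian 2 (Op 2 A) ∧ IsElementaryAbelian 2 (Op 2 B) := by
  by_contra hb
  have hm : ∀ n : ℕ, MinB G n := fun n => by
    induction n with
    | zero => intro f _ i j _ _; omega
    | succ n ih =>
      intro f hf i j h1 h2
      by_contra hc
      obtain h3 | h3 | h3 : (i - j < n ∧ j - i < n) ∨ j = n + i ∨ j = i - n := by omega
      · exact hc (ih f hf i j h3.1 h3.2)
      · exact (hf.shift i).false_of_crit ih (by omega) (by simpa [h3] using hc)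
      · exact (hf.rev i).false_of_crit ih (by omega) (by simpa [h3] using hc)
  let 𝒮 : Subgroup G → Subgroup G → Set (Subgroup G) := fun A B =>
    {X | ∃ f, Path f ∧ f 0 = A ∧ f 1 = B ∧ ∃ j, X = ZZ (f j)}
  have hs : ∀ A B, 𝒮 A B ⊆ 𝒮 B A := by
    rintro A B _ ⟨f, hf, h0, h1, j, rfl⟩
    exact ⟨_, hf.rev 1, h1, h0, 1 - j, by simp⟩
  have hn : ∀ A B, A ≤ 𝐍(sSup (𝒮 A B)) := fun A B => le_norm_sSup (by
    rintro a ha _ ⟨f, hf, rfl, rfl, j, rfl⟩
    by_cases hj : 0 ≤ j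
    · exact ⟨_, hf.refl ha, refl_ge le_rfl, refl_ge zero_le_one, -j, by
        rw [refl_le ha (j := j) (by omega) (by omega), ZZ_conj]⟩
    · obtain ⟨c, hc, e⟩ := hf.conj' (-1) 0 1
      have hf' := (hf.rev 0).smul c
      have h0 : c •ᶜ f (0 - 0) = f 0 := conj_eq_of_mem hc
      have h1 : a * c⁻¹ ∈ c •ᶜ f (0 - 0) := by rw [h0]; exact mul_mem ha (inv_mem hc)
      exact ⟨_, hf'.refl h1, (refl_ge le_rfl).trans h0, (refl_ge zero_le_one).trans e.symm, j, by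
        rw [refl_le h1 (j := -j) (by omega) (by omega), conj_conj, ZZ_conj]; simp⟩)
  have he : 𝒮 B A = 𝒮 A B := (hs B A).antisymm (hs A B)
  have h1 := h.triv (sSup (𝒮 A B)) (sSup_le (by
    rintro _ ⟨f, hf, rfl, rfl, j, rfl⟩
    exact (hm (j.natAbs + 1) f hf j 0 (by omega) (by omega)).trans h.left.Q_le)) (hn A B) (he ▸ hn B A)
  have hf : Path fun i : ℤ => if Even i then A else B := by
    refine ⟨fun i => ?_, fun i => ?_, fun i => ⟨1, one_mem _, by simp⟩⟩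
    · by_cases hi : Even i <;> simp only [Int.even_add_one, hi, not_true, not_false_iff, if_true,
        if_false]
      exacts [h, h.symm]
    · by_cases hi : Even i <;> simp only [Int.even_add_one, hi, not_true, not_false_iff, if_true,
        if_false]
      exacts [hb, fun e => hb e.symm]
  exact h.left.Z_ne_bot (eq_bot_iff.2 (h1 ▸ le_sSup ⟨_, hf, by simp, by simp, 0, by simp⟩))

end Cfsg.Agent.ZN
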