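import Mathlib
import Cfsg.Agent.Lib.ZN.Par
import Cfsg.Agent.Lib.Core.Transv4
import Cfsg.Agent.Lib.Core.TwoF

/-!
# Transvections of a solvable group on an elementary abelian `2`-group
-/

set_option autoImplicit false

namespace Cfsg.Agent.ZN

open Subgroup Cfsg.Agent.Coprime Cfsg.Agent.OO
open scoped Pointwise commutatorElement

universe u

variable {G : Type u} [Group G] {A B F L T V : Subgroup G} {g s t v w : G}

/-- `t` acts trivially or as a transvection on `V` -/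
def Tv (V : Subgroup G) (t : G) : Prop := 𝐂[t].relIndex V ≤ 2

/-- `F / C_L(V) = F(L / C_L(V))` -/
structure FF (L V F : Subgroup G) : Prop where
  normal : F ⊴ L
  cent : L ⊓ 𝐂(V) ≤ F
  odd : ∀ T : Subgroup G, IsPGroup 2 T → F ⊓ T ≤ 𝐂(V)
  off : ∀ A T : Subgroup G, A ∈ Transfer.maxElem 2 T → V ≤ T → T ≤ L →
    A ≤ closure {t | t ∈ A ∧ Tv V t}
  comm : ∀ s ∈ L, ∀ t ∈ L, Tv V s → Tv V t → ⁅s, t⁆ ∈ F
  data : ∀ t ∈ L, Tv V t → t ∉ 𝐂(V) → ∃ q ∈ F, ⁅q, t⁆ ∉ 𝐂(V) ∧ ⁅q, t⁆ ^ 3 ∈ 𝐂(V) ∧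
    (∀ f ∈ F, ⁅f, t⁆ ∈ zpowers ⁅q, t⁆ ⊔ L ⊓ 𝐂(V)) ∧
    ∀ s ∈ L, Tv V s → ⁅s, ⁅q, t⁆⁆ ∈ 𝐂(V) ∨ s * ⁅q, t⁆ * s⁻¹ * ⁅q, t⁆ ∈ 𝐂(V)

theorem tv_of_mem_cent (h : t ∈ 𝐂(V)) : Tv V t := by
  rw [Tv, relIndex_eq_one.2 (le_cent1_iff.2 h)]; omega

theorem Tv.conj (h : Tv V t) (hg : g ∈ 𝐍(V)) : Tv V (g * t * g⁻¹) := by
  rwa [Tv, Core.relIndex_centralizer_conj hg]

theorem comm_mem (ht : t ∈ 𝐍(F)) (hg : g ∈ F) (hs : s ∈ closure {g, t}) : ⁅s, t⁆ ∈ F := by
  have : closure {g, t} ≤ F ⊔ zpowers t := (closure_le _).2 (by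
    rintro _ (rfl | rfl)
    exacts [mem_sup_left hg, mem_sup_right (mem_zpowers _)])
  obtain ⟨f, hf, _, ⟨n, rfl⟩, rfl⟩ := (mem_sup_norm_left (zpowers_le.2 ht)).1 (this hs)
  have : ⁅f * t ^ n, t⁆ = f * (t * f⁻¹ * t⁻¹) := by simp only [commutatorElement_def]; group
  exact this ▸ mul_mem hf (conj_mem_of_norm ht (inv_mem hf))

variable [Finite G]

theorem offender (hA : A ∈ Transfer.maxElem 2 T) (hVT : V ≤ T) (hV : IsElementaryAbelian 2 V)
    (hB : B ≤ A) : ♯B * ♯(V ⊓ 𝐂(B)) ≤ ♯A * ♯(V ⊓ 𝐂(A)) := by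
  have hc : B ≤ 𝐂(V ⊓ 𝐂(B)) := le_cent_symm inf_le_right
  rw [← card_sup_mul_card_inf (Or.inl (le_norm_of_le_cent hc))]
  exact Nat.mul_le_mul (hA.2.2 _ (sup_le (hB.trans hA.1) (inf_le_left.trans hVT))
    (abelem_sup (abelem_of_le hA.2.1 hB) (abelem_of_le hV inf_le_left) hc))
    (card_le (le_inf (inf_le_right.trans inf_le_left)
      (inf_le_left.trans (hB.trans (abelem_le_cent hA.2.1)))))

theorem exists_ff (hs : Sol L) (hV : IsElementaryAbelian 2 V) (hLV : L ≤ 𝐍(V))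
    (hO : ∀ D, D ⊴ L → IsPiNum {2} (𝐂(V).relIndex D) → D ≤ 𝐂(V)) : ∃ F, FF L V F := by
  let H := V ⋊[MonoidHom.id (MulAut V)] MulAut V
  have : Finite H := Finite.of_equiv _ SemidirectProduct.equivProd.symm
  let ι : V →* H := SemidirectProduct.inl
  let α : L →* MulAut V := V.normalizerMonoidHom.comp (inclusion hLV)
  let κ : L →* H := SemidirectProduct.inr.comp α
  have hι : Function.Injective ι := SemidirectProduct.inl_injective
  have hconj : ∀ x w, κ x * ι w * (κ x)⁻¹ = ι (α x w) := fun x w => by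
    have := SemidirectProduct.inl_aut (φ := MonoidHom.id (MulAut V)) (α x) w
    rw [map_inv] at this
    exact this.symm
  have hα : ∀ x w, (α x w : G) = x * w * (x : G)⁻¹ := fun x w => rfl
  have hcomm : ∀ (x : L) (w : V), κ x * ι w = ι w * κ x ↔ (x : G) * w = w * x := fun x w => by
    rw [← mul_inv_eq_iff_eq_mul, hconj, hι.eq_iff, Subtype.ext_iff, hα, mul_inv_eq_iff_eq_mul]
  have hcard : ∀ B : Subgroup L, ♯(ι.range ⊓ 𝐂(B.map κ)) = ♯(V ⊓ 𝐂(B.map L.subtype)) := fun B => by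
    have : ι.range ⊓ 𝐂(B.map κ) = (𝐂(B.map L.subtype).subgroupOf V).map ι := by
      ext g
      constructor
      · intro hg
        obtain ⟨⟨w, rfl⟩, hg⟩ := mem_inf.1 hg
        refine ⟨w, ?_, rfl⟩
        rintro _ ⟨b, hb, rfl⟩
        exact (hcomm b w).1 (hg _ ⟨b, hb, rfl⟩)
      · rintro ⟨w, hw, rfl⟩
        refine mem_inf.2 ⟨⟨w, rfl⟩, ?_⟩
        rintro _ ⟨b, hb, rfl⟩
        exact (hcomm b w).2 (hw b ⟨b, hb, rfl⟩)
    rw [this, card_map_of_injective hι, Core.card_subgroupOf, inf_comm]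
  have hVr : ♯ι.range = ♯V := by
    rw [MonoidHom.range_eq_map, card_map_of_injective hι, card_top]
  have hTv : ∀ x : L, 𝐂[κ x].relIndex ι.range ≤ 2 ↔ Tv V x := fun x => by
    have h1 := hcard (zpowers x)
    rw [MonoidHom.map_zpowers, MonoidHom.map_zpowers, cent_zpowers, cent_zpowers, inf_comm,
      inf_comm V] at h1
    have h2 := card_inf_mul_relIndex 𝐂[κ x] ι.range
    rw [h1, hVr, ← card_inf_mul_relIndex 𝐂[L.subtype x] V] at h2
    rw [Nat.eq_of_mul_eq_mul_left (card_pos' _) h2]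
    rfl
  have hker : ∀ x : L, κ x = 1 ↔ (x : G) ∈ 𝐂(V) := fun x => by
    refine ⟨fun hx w hw => ((hcomm x ⟨w, hw⟩).1 (by rw [hx, one_mul, mul_one])).symm, fun hx => ?_⟩
    have : α x = 1 := by
      ext w
      simp [hα, ← hx w w.2]
    change SemidirectProduct.inr (α x) = (1 : H)
    rw [this, map_one]
  have hW' : ∀ w ∈ ι.range, w ^ 2 = 1 := by
    rintro _ ⟨w, rfl⟩
    rw [← map_pow, show w ^ 2 = 1 from Subtype.ext (hV.2 w w.2), map_one]
  have hMW : κ.range ≤ 𝐍(ι.range) := by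
    rintro _ ⟨x, rfl⟩
    refine mem_norm_of_conj_mem ?_
    rintro _ ⟨w, rfl⟩
    exact ⟨_, (hconj x w).symm⟩
  have hf : κ.range ⊓ 𝐂(ι.range) = ⊥ := by
    rw [eq_bot_iff]
    rintro _ ⟨⟨x, rfl⟩, hg⟩
    exact (hker x).2 fun w hw => ((hcomm x ⟨w, hw⟩).1 (hg _ ⟨⟨w, hw⟩, rfl⟩).symm).symm
  have hMs : Sol κ.range := Group.isSolvable_of_surjective κ.rangeRestrict_surjective
  have hnorm : ∀ K : Subgroup H, κ.range ≤ 𝐍(K) → (K.comap κ).map L.subtype ⊴ L := fun K hK =>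
    have : (K.comap κ).Normal := ⟨fun d hd g => by
      rw [mem_comap, map_mul, map_mul, map_inv]
      exact conj_mem_of_norm (hK ⟨g, rfl⟩) hd⟩
    normalIn_map_subtype _
  have hkerC : κ.ker = 𝐂(V).subgroupOf L := by
    ext x; exact hker x
  have hO2 : Op 2 κ.range = ⊥ := by
    have := hO _ (hnorm _ (Op_normal 2 _).norm) (by
      rw [← relIndex_comap, comap_subtype, ← hkerC, relIndex_ker]
      exact piGrp_singleton ((Op_isPGroup 2 _).to_le (map_comap_le _ _)))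
    rw [eq_bot_iff]
    intro g hg
    obtain ⟨x, rfl⟩ := Op_le 2 _ hg
    exact (hker x).2 (this ⟨x, hg, rfl⟩)
  have hF2 : ∀ g ∈ Fit κ.range, IsPGroup 2 (zpowers g) → g = 1 := fun g hg h => by
    have := le_Op_of_le_Fit h (zpowers_le.2 hg) (mem_zpowers _)
    rwa [hO2] at this
  have hF : Odd ♯(Fit κ.range) := by
    rw [← Nat.not_even_iff_odd, even_iff_two_dvd]
    intro h2
    obtain ⟨g, hg, ho⟩ := cauchy Nat.prime_two h2
    exact ne_one_of_inv ho (hF2 g hg (isPGroup_zpowers_inv ho))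
  have hFM := Fit_le κ.range
  have hMF := (Fit_normal κ.range).norm
  have hN := Fit_nil κ.range
  have hC := cent_sub_Fitting hMs
  refine ⟨((Fit κ.range).comap κ).map L.subtype, hnorm _ hMF, fun x hx => ⟨⟨x, hx.1⟩, ?_, rfl⟩,
    ?_, fun A T hA hVT hTL => ?_, fun s hs t ht h1 h2 => ?_, fun t ht h1 h2 => ?_⟩
  · rw [SetLike.mem_coe, mem_comap, (hker ⟨x, hx.1⟩).2 hx.2]
    exact one_mem _
  · rintro T hT _ ⟨⟨x, hx, rfl⟩, hxT⟩
    refine (hker x).1 (hF2 _ hx ?_)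
    rw [← MonoidHom.map_zpowers]
    exact ((hT.comap_subtype (K := L)).to_le (zpowers_le.2 hxT)).map κ
  · have hAL := hA.1.trans hTL
    have h1 := Core.le_closure_transv_of_offender hW' hMW hf hFM hMF hF hN hC
      ((A.subgroupOf L).map κ) (map_le_range κ _) (by have := hA.2.1.1; infer_instance)
      ((abelem_isPGroup hA.2.1).comap_subtype.map κ) fun B' hB' => by
        have e1 : (A.subgroupOf L ⊓ B'.comap κ).map κ = B' := by
          refine le_antisymm (map_le_iff_le_comap.2 inf_le_right) fun b hb => ?_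
          obtain ⟨a, ha, rfl⟩ := hB' hb
          exact ⟨a, mem_inf.2 ⟨ha, hb⟩, rfl⟩
        have e2 : κ.ker ⊓ (A.subgroupOf L ⊓ B'.comap κ) = κ.ker ⊓ A.subgroupOf L :=
          le_antisymm (inf_le_inf_left _ inf_le_left) (le_inf inf_le_left
            (le_inf inf_le_right (inf_le_left.trans (ker_le_comap κ B'))))
        have c1 := Core.card_inf_ker_mul_card_map κ (A.subgroupOf L ⊓ B'.comap κ)
        have c2 := Core.card_inf_ker_mul_card_map κ (A.subgroupOf L)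
        have c3 := offender hA hVT hV (B := (A.subgroupOf L ⊓ B'.comap κ).map L.subtype)
          (map_le_iff_le_comap.2 inf_le_left)
        have c4 := hcard (A.subgroupOf L)
        rw [map_subgroupOf_eq_of_le hAL] at c4
        rw [← hcard, ← c4, Core.card_map_subtype, ← Core.card_subgroupOf_of_le hAL, ← c1, ← c2, e1, e2,
          mul_assoc, mul_assoc] at c3
        exact Nat.le_of_mul_le_mul_left c3 Nat.card_pos
    intro a ha
    have h2 : closure {t | t ∈ (A.subgroupOf L).map κ ∧ t ≠ 1 ∧ 𝐂[t].relIndex ι.range ≤ 2} ≤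
        ((closure {t | t ∈ A ∧ Tv V t}).subgroupOf L).map κ := (closure_le _).2 (by
      rintro _ ⟨⟨x, hx, rfl⟩, -, h⟩
      exact ⟨x, subset_closure ⟨hx, (hTv x).1 h⟩, rfl⟩)
    obtain ⟨y, hy, e⟩ := h2 (h1 ⟨⟨a, hAL ha⟩, ha, rfl⟩)
    have h3 : closure {t | t ∈ A ∧ Tv V t} ≤ A := (closure_le _).2 fun t ht => ht.1
    have h4 := (hker (y⁻¹ * ⟨a, hAL ha⟩)).1 (by rw [map_mul, map_inv, e, inv_mul_cancel])
    exact (Subgroup.mul_mem_cancel_left _ (inv_mem hy)).1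
      (subset_closure ⟨A.mul_mem (inv_mem (h3 hy)) ha, tv_of_mem_cent h4⟩)
  · refine ⟨⁅(⟨s, hs⟩ : L), ⟨t, ht⟩⁆, ?_, rfl⟩
    rw [SetLike.mem_coe, mem_comap, map_commutatorElement]
    have h1' := (hTv ⟨s, hs⟩).2 h1
    have h2' := (hTv ⟨t, ht⟩).2 h2
    set s' := κ ⟨s, hs⟩
    set t' := κ ⟨t, ht⟩
    have hs' : s' ∈ κ.range := ⟨_, rfl⟩
    have ht' : t' ∈ κ.range := ⟨_, rfl⟩
    by_cases e1 : s' = 1
    · simp [e1]
    by_cases e2 : t' = 1
    · simp [e2]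
    obtain ⟨x, hx⟩ := Core.exists_isTransvData_of_transv hW' hMW hf hFM hMF hF hN hC ht' e2 h2'
    obtain ⟨y, hy⟩ := Core.exists_isTransvData_of_transv hW' hMW hf hFM hMF hF hN hC hs' e1 h1'
    by_cases c1 : Commute s' x
    · by_cases c2 : Commute t' y
      · rw [commutatorElement_eq_one_iff_commute.2 (hx.commute_of_commute hF hC ht'
          (Core.sq_eq_one_of_transv hW' hMW hf ht' h2') hy hs'
          (Core.sq_eq_one_of_transv hW' hMW hf hs' h1') c1 c2)]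
        exact one_mem _
      · rw [← commutatorElement_inv]
        exact inv_mem (comm_mem (hMF hs') hy.mem (hy.closure_eq hW' hMW hf hFM hF hs' h1'
          (hx.of_zpowers_eq (hy.zpowers_eq hW' hMW hf hFM hMF hN h1' hx ht' h2' c2) hy.order)
          ht' h2').1)
    · exact comm_mem (hMF ht') hx.mem (hx.closure_eq hW' hMW hf hFM hF ht' h2'
        (hy.of_zpowers_eq (hx.zpowers_eq hW' hMW hf hFM hMF hN h2' hy hs' h1' c1) hx.order)
        hs' h1').1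
  · have h1' := (hTv ⟨t, ht⟩).2 h1
    have ht' : κ ⟨t, ht⟩ ∈ κ.range := ⟨_, rfl⟩
    obtain ⟨x, hx⟩ := Core.exists_isTransvData_of_transv hW' hMW hf hFM hMF hF hN hC ht'
      (fun e => h2 ((hker _).1 e)) h1'
    obtain ⟨q', hq, e⟩ := hx.ex
    obtain ⟨q, rfl⟩ := hFM hq
    rw [← map_commutatorElement] at e
    set y : L := ⁅q, ⟨t, ht⟩⁆ with hy
    have hy' : ⁅(q : G), t⁆ = y := rfl
    subst e
    refine ⟨q, ⟨q, hq, rfl⟩, ?_⟩
    rw [hy']
    refine ⟨fun h => hx.not_commute ((hker y).2 h ▸ Commute.one_right _),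
      (hker (y ^ 3)).1 (by rw [map_pow, ← hx.order, pow_orderOf_eq_one]), ?_, fun s hs h3 => ?_⟩
    · rintro _ ⟨f, hf, rfl⟩
      obtain ⟨n, hn⟩ := hx.comm _ hf
      have h4 := (hker ((y ^ n)⁻¹ * ⁅f, ⟨t, ht⟩⁆)).1 (by
        rw [map_mul, map_inv, map_zpow, map_commutatorElement κ f, ← hn, inv_mul_cancel])
      exact (Subgroup.mul_mem_cancel_left _ (inv_mem (mem_sup_left (zpow_mem_zpowers (y : G) n)))).1
        (mem_sup_right ⟨((y ^ n)⁻¹ * ⁅f, (⟨t, ht⟩ : L)⁆).2, h4⟩)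
    · have h3' := (hTv ⟨s, hs⟩).2 h3
      have hs' : κ ⟨s, hs⟩ ∈ κ.range := ⟨_, rfl⟩
      by_cases c : Commute (κ ⟨s, hs⟩) (κ y)
      · exact Or.inl ((hker ⁅(⟨s, hs⟩ : L), y⁆).1 (by
          rw [map_commutatorElement, commutatorElement_eq_one_iff_commute.2 c]))
      · obtain ⟨z, hz⟩ := Core.exists_isTransvData_of_transv hW' hMW hf hFM hMF hF hN hC hs'
          (fun e => c (e ▸ Commute.one_left _)) h3'
        have := (hz.of_zpowers_eq (hx.zpowers_eq hW' hMW hf hFM hMF hN h1' hz hs' h3' c)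
          hx.order).inv
        exact Or.inr ((hker (⟨s, hs⟩ * y * (⟨s, hs⟩ : L)⁻¹ * y)).1 (by
          rw [map_mul, map_mul, map_mul, map_inv, this, inv_mul_cancel]))

end Cfsg.Agent.ZN
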