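import Mathlib
import Cfsg.Agent.Lib.ZN.FF
import Cfsg.Agent.Lib.ZN.Amalgam

/-!
# The Baumann subgroup
-/

set_option autoImplicit false

namespace Cfsg.Agent.ZN

open Subgroup Cfsg.Agent.Coprime Cfsg.Agent.OO
open scoped Pointwise commutatorElement

universe u

variable {G : Type u} [Group G] {A B N P R T V W Y : Subgroup G} {g r s t v w : G}

/-- `J(T)` -/
abbrev JJ (T : Subgroup G) : Subgroup G := thompsonSubgroupOf 2 T
/-- `ΩZ(J(T))` -/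
def UU (T : Subgroup G) : Subgroup G := Ohm 2 (Zc (JJ T))
/-- the Baumann subgroup -/
def BB (T : Subgroup G) : Subgroup G := T ⊓ 𝐂(UU T)
/-- `P ∈ 𝒫(B)` -/
def PP (B P : Subgroup G) : Prop := Par B P ∧ ¬ JJ B ≤ Op 2 P

theorem JJ_le (T : Subgroup G) : JJ T ≤ T := Transfer.thompsonSubgroupOf_le T

theorem JJ_le_iff : JJ T ≤ R ↔ ∀ A ∈ Transfer.maxElem 2 T, A ≤ R := by
  rw [JJ, Transfer.thompsonSubgroupOf_eq, sSup_le_iff]

theorem le_JJ (hA : A ∈ Transfer.maxElem 2 T) : A ≤ JJ T := Transfer.le_thompsonSubgroupOf hA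

theorem UU_abelem (T : Subgroup G) : IsElementaryAbelian 2 (UU T) := Ohm_abelem 2 (Zc_ab _)

theorem UU_le_JJ (T : Subgroup G) : UU T ≤ JJ T := (Ohm_le _ _).trans inf_le_left

theorem JJ_le_cent (T : Subgroup G) : JJ T ≤ 𝐂(UU T) :=
  le_cent_symm ((Ohm_le _ _).trans inf_le_right)

theorem BB_le (T : Subgroup G) : BB T ≤ T := inf_le_left

theorem JJ_le_BB (T : Subgroup G) : JJ T ≤ BB T := le_inf (JJ_le T) (JJ_le_cent T)

theorem UU_conj (g : G) (T : Subgroup G) : UU (g •ᶜ T) = g •ᶜ UU T := by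
  rw [UU, UU, JJ, ← Transfer.conj_smul_thompsonSubgroupOf, Zc_conj, Ohm_conj]

theorem norm_JJ_le (T : Subgroup G) : 𝐍(JJ T) ≤ 𝐍(UU T) :=
  (norm_le_norm_Zc _).trans (norm_le_norm_Ohm _ _)

theorem norm_le_norm_UU (T : Subgroup G) : 𝐍(T) ≤ 𝐍(UU T) :=
  (Transfer.normalizer_le_normalizer_thompsonSubgroupOf T).trans (norm_JJ_le T)

theorem norm_le_norm_BB (T : Subgroup G) : 𝐍(T) ≤ 𝐍(BB T) :=
  le_norm_inf le_rfl (le_norm_cent (norm_le_norm_UU T))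

theorem PP.conj (h : PP B P) (hg : g ∈ 𝐍(B)) : PP B (g •ᶜ P) := by
  refine ⟨by simpa only [conj_eq_of_mem_norm hg] using h.1.conj g, fun e => h.2 ?_⟩
  rwa [Op_conj, JJ, ← conj_eq_of_mem_norm (Transfer.normalizer_le_normalizer_thompsonSubgroupOf B hg),
    conj_le_conj_iff] at e

theorem mem_maxElem_of_mem (hA : A ∈ Transfer.maxElem 2 T) (hAR : A ≤ R) (hR : R ≤ T)
    (hB : B ∈ Transfer.maxElem 2 R) : B ∈ Transfer.maxElem 2 T :=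
  ⟨hB.1.trans hR, hB.2.1, fun C h1 h2 => (hA.2.2 C h1 h2).trans (hB.2.2 A hAR hA.2.1)⟩

theorem JJ_mono (hA : A ∈ Transfer.maxElem 2 T) (hAR : A ≤ R) (hR : R ≤ T) : JJ R ≤ JJ T :=
  JJ_le_iff.2 fun _ hB => le_JJ (mem_maxElem_of_mem hA hAR hR hB)

variable [Finite G]

theorem JJ_eq (h1 : JJ T ≤ R) (h2 : R ≤ T) : JJ R = JJ T := Transfer.thompsonSubgroupOf_eq_of_le h1 h2

theorem UU_eq (h1 : JJ T ≤ R) (h2 : R ≤ T) : UU R = UU T := by rw [UU, JJ_eq h1 h2, UU]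

theorem BB_eq (h1 : BB T ≤ R) (h2 : R ≤ T) : BB R = BB T := by
  rw [BB, UU_eq ((JJ_le_BB T).trans h1) h2]
  exact le_antisymm (inf_le_inf_right _ h2) (le_inf h1 inf_le_right)

theorem JJ_BB (T : Subgroup G) : JJ (BB T) = JJ T := JJ_eq (JJ_le_BB T) (BB_le T)

theorem norm_le_norm_JJ (h1 : JJ T ≤ R) (h2 : R ≤ T) : 𝐍(R) ≤ 𝐍(JJ T) :=
  JJ_eq h1 h2 ▸ Transfer.normalizer_le_normalizer_thompsonSubgroupOf R

theorem mem_maxElem_of_JJ (h1 : JJ T ≤ R) (h2 : R ≤ T) (hB : B ∈ Transfer.maxElem 2 R) :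
    B ∈ Transfer.maxElem 2 T := by
  obtain ⟨A, hA⟩ := Transfer.exists_mem_maxElem (p := 2) T
  exact mem_maxElem_of_mem hA ((le_JJ hA).trans h1) h2 hB

theorem UU_le_of_mem (hA : A ∈ Transfer.maxElem 2 T) : UU T ≤ A :=
  Transfer.le_of_mem_maxElem hA ((UU_le_JJ T).trans (JJ_le T)) (UU_abelem T)
    (le_cent_symm ((le_JJ hA).trans (JJ_le_cent T)))

theorem le_UU (hW : IsElementaryAbelian 2 W) (h1 : W ≤ T) (h2 : W ≤ 𝐂(JJ T)) : W ≤ UU T := by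
  obtain ⟨A, hA⟩ := Transfer.exists_mem_maxElem (p := 2) T
  exact le_Ohm (le_inf ((Transfer.le_of_mem_maxElem hA h1 hW
    (h2.trans (cent_anti (le_JJ hA)))).trans (le_JJ hA)) h2) hW

theorem OZ_le_UU (h1 : JJ T ≤ R) (h2 : R ≤ T) : Ohm 2 (Zc R) ≤ UU T :=
  le_UU (Ohm_abelem 2 (Zc_ab _)) ((Ohm_le _ _).trans (inf_le_left.trans h2))
    ((Ohm_le _ _).trans (inf_le_right.trans (cent_anti h1)))

theorem OZ_BB (T : Subgroup G) : Ohm 2 (Zc (BB T)) = UU T :=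
  le_antisymm (OZ_le_UU (JJ_le_BB T) (BB_le T)) (le_Ohm (le_inf ((UU_le_JJ T).trans (JJ_le_BB T))
    (le_cent_symm inf_le_right)) (UU_abelem T))

theorem BB_ne_bot (hT : IsPGroup 2 T) (h : T ≠ ⊥) : BB T ≠ ⊥ := fun e =>
  Transfer.thompsonSubgroupOf_ne_bot hT h (le_bot_iff.1 (e ▸ JJ_le_BB T))

theorem char_of_normal (hc : Y ⊓ 𝐂(Op 2 Y) ≤ Op 2 Y) (hN : N ⊴ Y) : N ⊓ 𝐂(Op 2 N) ≤ Op 2 N := by
  refine le_Op (normalIn_inf_cent (Op_normal 2 N).norm) (isPGroup_iff_piGrp.2 fun p hp hd => ?_)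
  by_contra h2
  obtain ⟨x, hx, ho⟩ := cauchy hp hd
  have h3 : PiGrp ({2} : Set ℕ)ᶜ (zpowers x) := by
    rw [piGrp_zpowers, PiElt, ho, isPiNum_prime hp]; exact h2
  have h4 := zpowers_le.2 hx.1
  have h1 : zpowers x ≤ 𝐂(Op 2 Y) := stable_factor_cent (zpowers_le.2 hx.2)
    ((hN.Op 2).mono (Op_le_of_normal 2 hN) (Op_le _ _))
    (Op_inf_normal 2 hN ▸ le_inf (commutator_le_left' ((h4.trans hN.le).trans (Op_normal 2 Y).norm))
      ((commutator_mono le_rfl h4).trans (commutator_le_right' ((Op_le _ _).trans hN.norm))))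
    (coprime_of_isPGroup (Op_isPGroup 2 Y) h3)
  have h5 := ((Op_piGrp 2 Y).piElt (hc ⟨hN.le hx.1, h1 (mem_zpowers x)⟩)).eq_one
    (piGrp_zpowers.1 h3)
  rw [h5, orderOf_one] at ho
  exact hp.one_lt.ne ho

theorem Par.conj_not_mem (h : Par T Y) (hg : g ∈ Y) (hg' : g ∉ T) (ht : t ∈ T) (ht' : t ∉ Op 2 Y) :
    g * t * g⁻¹ ∉ T := fun e =>
  ht' ((mem_norm_iff.1 ((Op_normal 2 Y).norm hg) t).2 (h.inf_conj_le hg hg' ⟨e, conj_mem_conj ht⟩))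

theorem Par.relIndex_cent (h : Par T Y) (hA : A ∈ Transfer.maxElem 2 T) (hAQ : ¬ A ≤ Op 2 Y) :
    (Ohm 2 (Zc T)).relIndex (ZZ Y) ≤ 2 := by
  have h1 := Core.relIndex_le_of_mem_maxElem hA (h.Z_le.trans h.Q_le) h.Z_abelem
  have h2 := relIndex_two_of_le h.idx2 (h.le.trans (Op_normal 2 Y).norm) hA.1 hAQ
  have h3 : 𝐂(A) ⊓ ZZ Y ≤ Ohm 2 (Zc T) := le_Ohm (le_inf (inf_le_right.trans (h.Z_le.trans h.Q_le))
    (le_cent_symm (h.le_of' (h.Q_le_cent.trans (cent_anti inf_le_right)) hA.1 hAQ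
      (le_cent_symm inf_le_left)))) (abelem_of_le h.Z_abelem inf_le_right)
  rw [← inf_relIndex_right] at h1
  exact (Core.relIndex_mono_left h3 _).trans (h1.trans ((Core.relIndex_mono_left h.Q_le_cent _).trans
    h2.le))

/-- **Baumann's argument** -/
theorem Par.baumann (h : Par T Y) (hJ : ¬ JJ T ≤ Op 2 Y) :
    ∃ P, PP (BB T) P ∧ P ≤ Y ∧ Y ≤ P ⊔ T := by
  obtain ⟨A, hA, hAQ⟩ : ∃ A ∈ Transfer.maxElem 2 T, ¬ A ≤ Op 2 Y := by
    simpa [JJ_le_iff] using hJ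
  obtain ⟨t, ht, htQ⟩ := SetLike.not_le_iff_exists.1 hAQ
  obtain ⟨g, hg, hg'⟩ := h.exists_not_mem
  have hYQ := (Op_normal 2 Y).norm
  have hTQ := h.le.trans hYQ
  have htT := hA.1 ht
  have htU : t ∈ 𝐂(UU T) := JJ_le_cent T (le_JJ hA ht)
  have hZ0 := OZ_le_UU (JJ_le T) le_rfl
  have hZt : ¬ ZZ Y ≤ 𝐂[t] := fun e => htQ (h.cent_Z ⟨h.le htT, le_cent1_iff.1 e⟩)
  have hc : A ⊓ Op 2 Y ≤ 𝐂(ZZ Y) := inf_le_right.trans h.Q_le_cent
  have hA1 : A ⊓ Op 2 Y ⊔ ZZ Y ∈ Transfer.maxElem 2 T := by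
    refine ⟨sup_le (inf_le_left.trans hA.1) (h.Z_le.trans h.Q_le),
      abelem_sup (abelem_of_le hA.2.1 inf_le_left) h.Z_abelem hc,
      fun C h1 h2 => (hA.2.2 C h1 h2).trans ?_⟩
    have h3 := card_inf_mul_relIndex (Op 2 Y) A
    have h4 := card_mul_relIndex (le_sup_left : A ⊓ Op 2 Y ≤ A ⊓ Op 2 Y ⊔ ZZ Y)
    have h5 : (A ⊓ Op 2 Y).relIndex (A ⊓ Op 2 Y ⊔ ZZ Y) ≠ 1 := fun e => hZt
      (le_sup_right.trans ((relIndex_eq_one.1 e).trans (inf_le_left.trans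
        ((abelem_le_cent hA.2.1).trans (cent_le_cent1 ht)))))
    have h6 := relIndex_pos (A ⊓ Op 2 Y) (A ⊓ Op 2 Y ⊔ ZZ Y)
    rw [← h3, ← h4, relIndex_two_of_le h.idx2 hTQ hA.1 hAQ, inf_comm]
    exact Nat.mul_le_mul_left _ (by omega)
  have hA1Q : A ⊓ Op 2 Y ⊔ ZZ Y ≤ Op 2 Y := sup_le inf_le_right h.Z_le
  have hW := UU_le_of_mem (Transfer.mem_maxElem_of_le hA1 hA1Q h.Q_le)
  have hUW : UU T ⊔ ZZ Y ≤ UU (Op 2 Y) := sup_le
    (le_UU (UU_abelem T) ((UU_le_of_mem hA1).trans hA1Q)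
      (le_cent_symm ((JJ_mono hA1 hA1Q h.Q_le).trans (JJ_le_cent T))))
    (le_UU h.Z_abelem h.Z_le (le_cent_symm ((JJ_le _).trans h.Q_le_cent)))
  have hWt : ∀ w ∈ UU (Op 2 Y), t * w * t⁻¹ * w⁻¹ ∈ ZZ Y := fun w hw => by
    obtain ⟨a, ha, z, hz, rfl⟩ := (mem_sup_norm_right (le_norm_of_le_cent hc)).1 (hW hw)
    have : t * (a * z) * t⁻¹ * (a * z)⁻¹ = a * (t * z * t⁻¹ * z⁻¹) * a⁻¹ := by
      rw [← mul_assoc, abelem_le_cent hA.2.1 ha.1 t ht]; group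
    rw [this]
    exact conj_mem_of_norm (le_norm_of_le_cent hc ha)
      (mul_mem (conj_mem_of_norm (le_norm_ZZ Y (h.le htT)) hz) (inv_mem hz))
  have ht' := h.conj_not_mem hg hg' htT htQ
  have ht'Y := conj_mem_of_norm (le_norm_self Y hg) (h.le htT)
  have hTU := (le_norm_self T).trans (norm_le_norm_UU T)
  have hn : Y ≤ 𝐍(UU T ⊔ ZZ Y) := h.max (le_norm_sup hTU (h.le.trans (le_norm_ZZ Y))) ht'Y ht'
    (mem_norm_of_conj_mem fun w hw => by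
      have h1 := conj_mem_of_norm (le_norm_ZZ Y hg) (hWt _
        (conj_mem_of_norm' (norm_le_norm_UU _ (hYQ hg)) (hUW hw)))
      have := mul_mem (mem_sup_right h1 : _ ∈ UU T ⊔ ZZ Y) hw
      simpa [mul_assoc] using this)
  have hi : (g •ᶜ UU T).relIndex (UU T ⊔ ZZ Y) = 2 := by
    rw [← conj_eq_of_mem_norm (hn hg), relIndex_conj,
      relIndex_sup_eq' (Or.inl (((UU_le_JJ T).trans (JJ_le T)).trans (h.le.trans (le_norm_ZZ Y))))]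
    have h1 := (Core.relIndex_mono_left hZ0 _).trans (h.relIndex_cent hA hAQ)
    have h2 : (UU T).relIndex (ZZ Y) ≠ 1 := fun e =>
      hZt ((relIndex_eq_one.1 e).trans (le_cent1_iff.2 htU))
    have h3 := relIndex_pos (UU T) (ZZ Y)
    omega
  have hall : ∀ x ∈ UU T ⊓ g •ᶜ UU T, ∀ y ∈ Y, x ∈ y •ᶜ UU T := fun x hx y hy => by
    rcases h.cosets hg hg' htT htQ hy with e | e | e
    · rw [conj_eq_of_mem_norm (hTU e)]; exact hx.1
    · rw [← mul_inv_cancel_left g y, ← conj_conj, conj_eq_of_mem_norm (hTU e)]; exact hx.2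
    · rw [← mul_inv_cancel_left (t * g) y, ← conj_conj, conj_eq_of_mem_norm (hTU e), ← conj_conj,
        ← mem_cent_iff_conj.1 htU x hx.1]
      exact conj_mem_conj hx.2
  have hn0 : Y ≤ 𝐍(UU T ⊓ g •ᶜ UU T) := le_norm_iff.2 fun y hy x hx => ⟨by
    simpa using mem_conj.1 (hall x hx _ (inv_mem hy)), mem_conj.2 (by
      simpa [mul_assoc] using mem_conj.1 (hall x hx _ (mul_mem (inv_mem hy) hg)))⟩
  obtain ⟨r, hr, hr'⟩ : ∃ r ∈ Ohm 2 (Zc T), r ∉ g •ᶜ UU T := SetLike.not_le_iff_exists.1 fun e =>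
    h.ncent (h.max (le_cent_symm ((Ohm_le _ _).trans inf_le_right)) ht'Y ht'
      (cent_anti e (by rw [cent_conj]; exact conj_mem_conj htU)))
  have hU : UU T ≤ UU T ⊓ g •ᶜ UU T ⊔ ZZ Y := fun u hu => by
    by_cases e : u ∈ g •ᶜ UU T
    · exact mem_sup_left ⟨hu, e⟩
    · exact (Subgroup.mul_mem_cancel_right _ (mem_sup_right (le_ZZ h.syl hr))).1 (mem_sup_left
        ⟨(UU T).mul_mem hu (hZ0 hr), (mul_mem_iff_of_relIndex_two hi (mem_sup_left hu)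
          (mem_sup_left (hZ0 hr))).2 (by simp [e, hr'])⟩)
  set P := Y ⊓ 𝐂(UU T ⊓ g •ᶜ UU T)
  have hP : P ⊴ Y := normalIn_inf_cent hn0
  have hBP : BB T ≤ P := inf_le_inf h.le (cent_anti inf_le_left)
  have htB : t ∈ BB T := ⟨htT, htU⟩
  have hQP : ∀ k ∈ Op 2 Y, k ∈ P → k ∈ BB T := fun k h1 h2 =>
    ⟨h.Q_le h1, cent_anti hU (by rw [cent_sup]; exact ⟨h2.2, h.Q_le_cent h1⟩)⟩
  have hTP : T ⊓ P = BB T := le_antisymm (fun k hk => by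
    by_cases e : k ∈ Op 2 Y
    · exact hQP k e hk.2
    · exact (Subgroup.mul_mem_cancel_right _ htB).1 (hQP _ ((mul_mem_iff_of_relIndex_two h.idx2 hk.1
        htT).2 (by simp [e, htQ])) (P.mul_mem hk.2 (hBP htB)))) (le_inf (BB_le T) hBP)
  have hY : Y ≤ T ⊔ P := h.max le_sup_left ht'Y ht' (mem_sup_right (hP.conj_mem hg (hBP htB)))
  have hJ' : ¬ JJ (BB T) ≤ Op 2 P := fun e => hJ (JJ_BB T ▸ e.trans (Op_le_of_normal 2 hP))
  refine ⟨P, ⟨⟨hTP ▸ h.syl.inf_normal hP, ?_, ?_, char_of_normal h.char hP, fun e => h.ncent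
    (hY.trans (sup_le (le_cent_symm ((Ohm_le _ _).trans inf_le_right))
      (e.trans (cent_anti (OZ_BB T ▸ hZ0)))))⟩, hJ'⟩, hP.le, by rwa [sup_comm]⟩
  · rw [← hTP, inf_relIndex_right, ← relIndex_sup_eq' (Or.inl (h.le.trans hP.norm)),
      ← le_antisymm hY (sup_le h.le hP.le), h.idx]
  · rw [← Op_inf_normal 2 hP, ← inf_relIndex_right, inf_assoc, inf_eq_right.2 hBP,
      inf_relIndex_right]
    exact relIndex_two_of_le h.idx2 hTQ (BB_le T) fun e => htQ (e htB)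

end Cfsg.Agent.ZN
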