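import Mathlib
import Cfsg.Agent.Lib.ZN.Baumann

/-!
# `J(T)`-components of solvable groups of characteristic two
-/

set_option autoImplicit false

namespace Cfsg.Agent.ZN

open Subgroup Cfsg.Agent.Coprime Cfsg.Agent.OO
open scoped Pointwise commutatorElement

universe u

variable {G : Type u} [Group G] {A B C D F L M N P P₁ P₂ Q R T V W Y : Subgroup G}
  {b c g q r s t v w x y : G}

/-- a solvable group of characteristic two with the `Z`-condition -/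
structure ZL (L : Subgroup G) : Prop where
  sol : Sol L
  char : L ⊓ 𝐂(Op 2 L) ≤ Op 2 L
  norm : ∀ T, Syl 2 T L → L ⊓ 𝐂(Ohm 2 (Zc T)) ≤ 𝐍(T)

/-- the centralizer of `x` modulo `Q` -/
def cm (x : G) (Q : Subgroup G) : Subgroup G where
  carrier := {g | g ∈ 𝐍(Q) ∧ ⁅x, g⁆ ∈ Q}
  one_mem' := ⟨one_mem _, by simp⟩
  mul_mem' := fun {a b} ha hb => ⟨mul_mem ha.1 hb.1, by
    have : ⁅x, a * b⁆ = ⁅x, a⁆ * (a * ⁅x, b⁆ * a⁻¹) := by simp [commutatorElement_def, mul_assoc]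
    exact this ▸ mul_mem ha.2 (conj_mem_of_norm ha.1 hb.2)⟩
  inv_mem' := fun {a} ha => ⟨inv_mem ha.1, by
    have : ⁅x, a⁻¹⁆ = a⁻¹ * ⁅x, a⁆⁻¹ * a := by simp [commutatorElement_def, mul_assoc]
    exact this ▸ conj_mem_of_norm' ha.1 (inv_mem ha.2)⟩

theorem comm_mem_of_norm (ht : t ∈ 𝐍(V)) (hv : v ∈ V) : ⁅v, t⁆ ∈ V := by
  simpa [commutatorElement_def, mul_assoc] using mul_mem hv (conj_mem_of_norm ht (inv_mem hv))

theorem mem_cases (hx : x ∈ 𝐍(C)) (h3 : x ^ 3 ∈ C) (hy : y ∈ zpowers x ⊔ C) :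
    y ∈ C ∨ y * x⁻¹ ∈ C ∨ y * x ∈ C := by
  rw [sup_comm] at hy
  obtain ⟨c, hc, k, rfl⟩ := (PGrp.mem_sup_zpowers_iff hx).1 hy
  have h : ∀ j : ℤ, 3 ∣ j → c * x ^ j ∈ C := by
    rintro _ ⟨j, rfl⟩
    exact mul_mem hc (by rw [zpow_mul]; exact zpow_mem (by exact_mod_cast h3) j)
  rw [mul_assoc, mul_assoc, ← zpow_sub_one, ← zpow_add_one]
  rcases (by omega : 3 ∣ k ∨ 3 ∣ k - 1 ∨ 3 ∣ k + 1) with e | e | e
  exacts [Or.inl (h _ e), Or.inr (Or.inl (h _ e)), Or.inr (Or.inr (h _ e))]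

variable [Finite G]

theorem Tv.comm_eq (h : Tv V t) (hV : IsElementaryAbelian 2 V) (ht : t ∈ 𝐍(V)) (hv : v ∈ V)
    (hw : w ∈ V) (h1 : ⁅v, t⁆ ≠ 1) (h2 : ⁅w, t⁆ ≠ 1) : ⁅v, t⁆ = ⁅w, t⁆ := by
  have h3 := mem_cent1.1 (Core.mul_mem_of_relIndex_le_two (relIndex_pos _ _).ne' h hv (inv_mem hw)
    (fun e => h1 (commutatorElement_eq_one_iff_mul_comm.2 (mem_cent1.1 e)))
    fun e => h2 (commutatorElement_eq_one_iff_mul_comm.2 (mem_cent1.1 (inv_mem_iff.1 e))))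
  have h4 := abelem_le_cent hV (comm_mem_of_norm ht hw) _ (mul_mem hv (inv_mem hw))
  calc ⁅v, t⁆ = v * w⁻¹ * ⁅w, t⁆ * (t * (v * w⁻¹)⁻¹ * t⁻¹) := by
        simp only [commutatorElement_def]; group
    _ = ⁅w, t⁆ * (v * w⁻¹ * t) * (v * w⁻¹)⁻¹ * t⁻¹ := by rw [h4]; group
    _ = _ := by rw [h3]; group

theorem Tv.conj_comm (h : Tv V s) (hV : IsElementaryAbelian 2 V) (hs : s ∈ 𝐍(V)) (hg : g ∈ 𝐍(V))
    (hc : ⁅g, s⁆ ∈ 𝐂(V)) (hv : v ∈ V) : g ∈ 𝐂[⁅v, s⁆] := by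
  rw [mem_cent1_iff_conj]
  by_cases e : ⁅v, s⁆ = 1
  · simp [e]
  have h1 := conj_mem_of_norm hg hv
  have : g * ⁅v, s⁆ * g⁻¹ = ⁅g * v * g⁻¹, s⁆ :=
    calc g * ⁅v, s⁆ * g⁻¹ = g * v * g⁻¹ * (⁅g, s⁆ * (s * (g * v * g⁻¹)⁻¹ * s⁻¹)) * ⁅g, s⁆⁻¹ := by
          simp only [commutatorElement_def]; group
      _ = _ := by
          rw [← hc _ (conj_mem_of_norm hs (inv_mem h1))]; simp only [commutatorElement_def]; group
  rw [this]
  exact h.comm_eq hV hs h1 hv (by rw [← this]; exact conj_ne_one.2 e) e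

theorem Tv.not_mem_cent (h : Tv V t) (hV : IsElementaryAbelian 2 V) (ht : t ∈ 𝐍(V)) (hx : x ∈ 𝐍(V))
    (hv : v ∈ V) (h1 : ⁅v, t⁆ ≠ 1) (h2 : ⁅x, t⁆ = x ^ 2) (h3 : x ^ 3 ∈ 𝐂(V)) (h4 : x ∉ 𝐂(V)) :
    x ∉ 𝐂[⁅v, t⁆] := fun e => by
  have hr := comm_mem_of_norm ht hv
  have h5 : ∀ w ∈ V, ⁅w, t⁆ ∈ zpowers ⁅v, t⁆ := fun w hw => by
    by_cases e' : ⁅w, t⁆ = 1
    · exact e' ▸ one_mem _
    · exact h.comm_eq hV ht hw hv e' h1 ▸ mem_zpowers _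
  have hx' : x ∈ 𝐂(zpowers ⁅v, t⁆) := by rwa [cent_zpowers]
  have ht' : t ∈ 𝐍(zpowers ⁅v, t⁆) := cent_le_norm _ (by
    rw [cent_zpowers]; exact h.conj_comm hV ht ht (by simp) hv)
  refine h4 ((Subgroup.mul_mem_cancel_left _ h3).1 fun w hw => ?_)
  have h6 : x ^ 2 ∈ cm w (zpowers ⁅v, t⁆) := h2 ▸ (cm w _).mul_mem
    ⟨conj_mem_of_norm (le_norm_self _ (cent_le_norm _ hx')) ht', by
      simpa [commutatorElement_def, mul_assoc] using
        conj_mem_of_norm (cent_le_norm _ hx') (h5 _ (conj_mem_of_norm' hx hw))⟩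
    (inv_mem (⟨ht', h5 w hw⟩ : t ∈ cm w _))
  have h7 := hV.2 _ (zpowers_le.2 hr h6.2)
  have h8 := pow_mem hx' 2 _ h6.2
  rw [← commutatorElement_eq_one_iff_mul_comm, ← h7, sq ⁅w, x ^ 2⁆]
  calc ⁅w, x ^ 3 * x⁆ = ⁅w, x ^ 2⁆ * (x ^ 2 * ⁅w, x ^ 2⁆) * (x ^ 2)⁻¹ := by
        simp only [commutatorElement_def]; group
    _ = _ := by rw [← h8]; group

theorem mem_of_sq_mem (hT : Syl 2 T L) (hc : c ∈ L) (hn : c ∈ 𝐍(T)) (h : c ^ 2 ∈ T) : c ∈ T := by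
  obtain ⟨k, hk⟩ := hT.isPGroup ⟨_, h⟩
  exact hT.mem_of_mem_norm hc hn ((isPiNum_singleton_pow Nat.prime_two (k + 1)).of_dvd
    (orderOf_dvd_of_pow_eq_one (by rw [pow_succ', pow_mul]; exact congrArg Subtype.val hk)))

theorem inf_le_Op (hT : Syl 2 T L) (hD : D ⊴ L) (h : D ≤ 𝐍(T ⊓ D)) : T ⊓ D ≤ Op 2 L :=
  le_Op ⟨inf_le_left.trans hT.le, hD.norm.trans ((hT.inf_normal hD).norm_le_norm_of_normal h)⟩
    (hT.isPGroup.to_le inf_le_left)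

namespace ZL

theorem V_abelem (h : ZL L) : IsElementaryAbelian 2 (ZZ L) := ZZ_abelem h.char

theorem V_le (h : ZL L) : ZZ L ≤ Op 2 L := (ZZ_le_Zc h.char).trans ((Ohm_le _ _).trans inf_le_left)

theorem Q_le (h : ZL L) : Op 2 L ≤ 𝐂(ZZ L) :=
  le_cent_symm ((ZZ_le_Zc h.char).trans ((Ohm_le _ _).trans inf_le_right))

omit [Finite G] in
theorem cent_le (h : ZL L) (hT : Syl 2 T L) : L ⊓ 𝐂(ZZ L) ≤ 𝐍(T) :=
  (inf_le_inf_left _ (cent_anti (le_ZZ hT))).trans (h.norm T hT)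

theorem mem_Q (h : ZL L) (hT : Syl 2 T L) (hc : c ∈ T) (hc' : c ∈ 𝐂(ZZ L)) : c ∈ Op 2 L :=
  inf_le_Op hT (normalIn_inf_cent (le_norm_ZZ L)) (le_norm_inf (h.cent_le hT) (le_norm_self _))
    ⟨hc, hT.le hc, hc'⟩

theorem exists_ff (h : ZL L) : ∃ F, FF L (ZZ L) F := by
  refine ZN.exists_ff h.sol h.V_abelem (le_norm_ZZ L) fun D hD hi => ?_
  obtain ⟨T, hT⟩ := exists_syl 2 L
  have h1 : D ≤ 𝐂(ZZ L) ⊓ D ⊔ T ⊓ D := (IsProd.of_coprime_relIndex inf_le_right inf_le_right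
    (by rw [inf_relIndex_right]; exact hi.coprime (hT.inf_normal hD).hall.compl)).sup_eq.ge
  exact h1.trans (sup_le inf_le_left ((inf_le_Op hT hD (h1.trans (sup_le (le_norm_inf
    ((le_inf (inf_le_right.trans hD.le) inf_le_left).trans (h.cent_le hT))
    (le_norm_of_le inf_le_right)) (le_norm_self _)))).trans h.Q_le))

theorem norm_JJ (h : ZL L) (hT : Syl 2 T L) : L ⊓ 𝐍(JJ T) ≤ 𝐍(BB T) := by
  have h1 : L ⊓ 𝐂(UU T) ≤ 𝐍(T) :=
    (inf_le_inf_left _ (cent_anti (OZ_le_UU (JJ_le T) le_rfl))).trans (h.norm T hT)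
  have h2 := (hT.inf_of_norm inf_le_left (le_norm_inf (le_norm_of_le hT.le) (le_norm_cent
    ((le_norm_self T).trans (norm_le_norm_UU T))))).norm_le_norm_of_normal
    (le_norm_inf h1 (le_norm_self _))
  rw [← inf_assoc, inf_eq_left.2 hT.le] at h2
  exact (le_norm_inf (le_norm_of_le inf_le_left)
    (le_norm_cent (inf_le_right.trans (norm_JJ_le T)))).trans h2

theorem comm_mem_Q (h : ZL L) (hT : Syl 2 T L) (hx : x ∈ L) (hb : b ∈ T) (hc : ⁅x, b⁆ ∈ 𝐂(ZZ L)) :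
    ⁅x, b⁆ ∈ Op 2 L := by
  have h1 : ⁅x, b⁆ ∈ L := comm_mem_of_norm (le_norm_self L (hT.le hb)) hx
  have h2 : ⁅x, b⁆ * b ∈ T := hT.mem_of_mem_norm (mul_mem h1 (hT.le hb))
    (mul_mem (h.cent_le hT ⟨h1, hc⟩) (le_norm_self T hb)) (by
      simpa [commutatorElement_def] using (hT.piGrp.piElt hb).conj x)
  exact h.mem_Q hT ((Subgroup.mul_mem_cancel_right _ hb).1 h2) hc

theorem comm_mem_UU (h : ZL L) (hF : FF L (ZZ L) F) (hT : Syl 2 T L) (ht : t ∈ T)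
    (htv : Tv (ZZ L) t) (hv : v ∈ ZZ L) : ⁅v, t⁆ ∈ UU T := by
  have hVT := h.V_le.trans (Op_le_syl hT)
  have hn := hT.le.trans (le_norm_ZZ L)
  have hr := zpowers_le.2 (comm_mem_of_norm (hn ht) hv)
  refine le_UU (abelem_of_le h.V_abelem hr) (hr.trans hVT) (le_cent_symm (JJ_le_iff.2
    fun A hA => (hF.off A T hA hVT hT.le).trans ((closure_le _).2 fun s hs => ?_))) (mem_zpowers _)
  have hs' := hA.1 hs.1
  rw [cent_zpowers]
  exact htv.conj_comm h.V_abelem (hn ht) (hn hs') (hF.odd T hT.isPGroup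
    ⟨hF.comm s (hT.le hs') t (hT.le ht) hs.2 htv, comm_mem_of_norm (le_norm_self T ht) hs'⟩) hv

theorem exists_par (h : ZL L) (hF : FF L (ZZ L) F) (hT : Syl 2 T L) (ht : t ∈ T) (ht2 : t ^ 2 = 1)
    (htv : Tv (ZZ L) t) (htc : t ∉ 𝐂(ZZ L)) : ∃ x T₁ Y, Par T₁ Y ∧ Y ≤ L ∧ x ∈ Y ∧ BB T ≤ T₁ ∧
      T₁ ≤ T ∧ t ∉ Op 2 Y ∧ ∀ f ∈ F, ⁅f, t⁆ ∈ zpowers x ⊔ L ⊓ 𝐂(ZZ L) := by
  obtain ⟨q, hq, hx, hx3, hd, hs⟩ := hF.data t (hT.le ht) htv htc
  have hxF : ⁅q, t⁆ ∈ F := comm_mem_of_norm (hF.normal.norm (hT.le ht)) hq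
  have hinv : t * ⁅q, t⁆ * t⁻¹ = ⁅q, t⁆⁻¹ := by
    calc t * ⁅q, t⁆ * t⁻¹ = t * q * t⁻¹ * t ^ 2 * q⁻¹ * (t ^ 2)⁻¹ := by
          simp only [commutatorElement_def]; group
      _ = _ := by rw [ht2]; simp only [commutatorElement_def]; group
  generalize ⁅q, t⁆ = x at *
  have hxL := hF.normal.le hxF
  have hn := le_norm_ZZ L
  have hxt : ⁅x, t⁆ = x ^ 2 := by
    calc ⁅x, t⁆ = x * (t * x * t⁻¹)⁻¹ := by simp only [commutatorElement_def]; group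
      _ = _ := by rw [hinv, inv_inv, sq]
  obtain ⟨v, hv, hr1⟩ : ∃ v ∈ ZZ L, ⁅v, t⁆ ≠ 1 := by
    by_contra! e
    exact htc fun v hv => commutatorElement_eq_one_iff_mul_comm.1 (e v hv)
  have hrV := comm_mem_of_norm (hn (hT.le ht)) hv
  have hxr := htv.not_mem_cent h.V_abelem (hn (hT.le ht)) (hn hxL) hv hr1 hxt hx3 hx
  have hC : L ⊓ 𝐂(ZZ L) ⊴ L := normalIn_inf_cent hn
  have hx3' : x ^ 3 ∈ L ⊓ 𝐂(ZZ L) := ⟨pow_mem hxL 3, hx3⟩
  have hx3Q : x ^ 3 ∈ Op 2 L := h.mem_Q hT (mem_of_sq_mem hT hx3'.1 (h.cent_le hT hx3') (by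
    have := mul_mem (conj_mem_of_norm (h.cent_le hT hx3') ht) (inv_mem ht)
    rwa [mul_assoc, mul_assoc, ← mul_assoc t, ← inv_pow, ← conj_pow, ← conj_inv, hinv, inv_inv,
      ← sq] at this)) hx3
  have hQ := Op_normal 2 L
  have hQT : Op 2 L ≤ T ⊓ 𝐂[⁅v, t⁆] := le_inf (Op_le_syl hT) (h.Q_le.trans (cent_le_cent1 hrV))
  have htT : t ∈ T ⊓ 𝐂[⁅v, t⁆] :=
    ⟨ht, htv.conj_comm h.V_abelem (hn (hT.le ht)) (hn (hT.le ht)) (by simp) hv⟩
  have hD : ∀ b ∈ T ⊓ 𝐂[⁅v, t⁆], b⁻¹ * x * b ∈ zpowers x ⊔ L ⊓ 𝐂(ZZ L) := fun b hb => by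
    have hbL := hT.le hb.1
    have hsL := conj_mem_of_norm (le_norm_self L hbL) (hT.le ht)
    rcases hs _ hsL (htv.conj (hn hbL)) with e | e
    · have := (htv.conj (hn hbL)).conj_comm h.V_abelem (hn hsL) (hn hxL)
        (by rw [← commutatorElement_inv]; exact inv_mem e) (conj_mem_of_norm (hn hbL) hv)
      rw [← conjugate_commutatorElement, mem_cent1_iff_conj.1 hb.2] at this
      exact absurd this hxr
    · have h1 := hd _ (conj_mem_of_norm' (hF.normal.norm hbL) hxF)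
      have h2 := hC.conj_mem (inv_mem hbL)
        ⟨mul_mem (conj_mem_of_norm (le_norm_self L hsL) hxL) hxL, e⟩
      have h3 := hC.conj_mem (inv_mem hbL) hx3'
      have := mul_mem (mem_sup_right h3) (inv_mem (mul_mem h1 (mem_sup_right h2)))
      convert this using 1
      simp only [commutatorElement_def]; group
  set T₁ := T ⊓ 𝐂[⁅v, t⁆]
  have h1L : T₁ ≤ L := inf_le_left.trans hT.le
  have hx2 : x ^ 2 ∉ T₁ := fun e => hxr ((Subgroup.mul_mem_cancel_left _ e.2).1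
    (by rw [← pow_succ]; exact cent_le_cent1 hrV hx3))
  have hi : (T₁ ⊓ cm x (Op 2 L)).relIndex T₁ = 2 := by
    rw [inf_comm, inf_relIndex_right, relIndex_eq_two_iff_exists_notMem_and']
    refine ⟨t, htT, fun e => hx2 (hQT (hxt ▸ e.2)), fun b hb => ?_⟩
    rcases mem_cases (hC.norm hxL) hx3' (hD _ (inv_mem hb)) with e | e | e
    · exact absurd (by simpa [mul_assoc] using (hC.conj_mem (inv_mem (h1L hb)) e).2) hx
    · exact Or.inr ⟨hQ.norm (h1L hb), h.comm_mem_Q hT hxL hb.1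
        (by simpa [commutatorElement_def, mul_assoc] using (inv_mem e).2)⟩
    · refine Or.inl ⟨hQ.norm (h1L (mul_mem htT hb)), h.comm_mem_Q hT hxL (mul_mem ht hb.1) ?_⟩
      have : ⁅x, t * b⁆ = t * (b⁻¹⁻¹ * x * b⁻¹ * x)⁻¹ * t⁻¹ :=
        calc ⁅x, t * b⁆ = x * (t * x * t⁻¹) * (t * (b⁻¹⁻¹ * x * b⁻¹ * x)⁻¹ * t⁻¹) := by
              simp only [commutatorElement_def]; group
          _ = _ := by rw [hinv, mul_inv_cancel, one_mul]
      exact this ▸ (hC.conj_mem (hT.le ht) (inv_mem e)).2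
  set T₀ := T₁ ⊓ cm x (Op 2 L)
  have hQ0 : Op 2 L ≤ T₀ := le_inf hQT fun a ha => ⟨le_norm_self _ ha, by
    simpa [commutatorElement_def] using mul_mem (hQ.conj_mem hxL ha) (inv_mem ha)⟩
  have hX : T₁ ≤ 𝐍(Op 2 L ⊔ zpowers x) := by
    refine le_of_relIndex_two hi (fun b hb => mem_norm_of_conj_le ?_) htT
      (fun e => hx2 (hQT (hxt ▸ e.2.2))) (mem_norm_sup (hQ.norm (hT.le ht)) ?_)
    · rw [conj_sup, conj_eq_of_mem_norm hb.2.1, conj_zpowers]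
      refine sup_le le_sup_left (zpowers_le.2 ?_)
      simpa [commutatorElement_def, mul_assoc] using
        mul_mem (mem_sup_left (inv_mem hb.2.2)) (mem_sup_right (mem_zpowers x))
    · rw [← conj_eq_self_iff, conj_zpowers, hinv, zpowers_inv]
  have hi3 : (Op 2 L).relIndex (Op 2 L ⊔ zpowers x) = 3 := by
    rw [relIndex_sup_eq' (Or.inr (zpowers_le.2 (hQ.norm hxL)))]
    exact PGrp.relIndex_zpowers_eq_prime (hp := ⟨Nat.prime_three⟩) (fun e => hx (h.Q_le e)) hx3Q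
  have hxT : x ∉ T₁ := fun e => hxr e.2
  have hi3' : T₁.relIndex (Op 2 L ⊔ zpowers x ⊔ T₁) = 3 := by
    rw [relIndex_sup_eq (Or.inr hX), ← inf_relIndex_right]
    rcases (covBy_of_relIndex_prime le_sup_left (hi3 ▸ Nat.prime_three)).eq_or_eq
      (le_inf hQT le_sup_left) inf_le_right with e | e
    · rw [e, hi3]
    · exact absurd (inf_eq_right.1 e (mem_sup_right (mem_zpowers x))) hxT
  set Y := Op 2 L ⊔ zpowers x ⊔ T₁
  have hYL : Y ≤ L := sup_le (sup_le hQ.le (zpowers_le.2 hxL)) h1L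
  have hxY : x ∈ Y := mem_sup_left (mem_sup_right (mem_zpowers x))
  have hsyl : Syl 2 T₁ Y := ⟨le_sup_right, hT.isPGroup.to_le inf_le_left, by rw [hi3']; omega⟩
  have htO : t ∉ Op 2 Y := fun e => hx2 (Op_le_syl hsyl (hxt ▸
    mul_mem ((Op_normal 2 Y).conj_mem hxY e) (inv_mem e)))
  have hn1 : T₁ ≤ 𝐍(T₀) := le_norm_iff.2 fun a ha b hb => by
    rw [mul_mem_iff_of_relIndex_two hi (mul_mem ha hb.1) (inv_mem ha),
      mul_mem_iff_of_relIndex_two hi ha hb.1, inv_mem_iff]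
    simp [hb]
  have hO : T₀ ≤ Op 2 Y := le_Op ⟨inf_le_left.trans le_sup_right, sup_le (sup_le (hQT.trans hn1)
    (zpowers_le.2 (mem_norm_of_conj_mem fun b hb => by
      simpa [commutatorElement_def] using mul_mem (hQ0 hb.2.2) hb))) hn1⟩
    (hsyl.isPGroup.to_le inf_le_left)
  refine ⟨x, T₁, Y, ⟨hsyl, hi3', ?_, (inf_le_inf hYL (cent_anti (hQ0.trans hO))).trans
    (h.char.trans (hQ0.trans hO)), fun e => hxr (cent_le_cent1 ?_ (e hxY))⟩, hYL, hxY,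
    inf_le_inf_left _ (cent_le_cent1 (h.comm_mem_UU hF hT ht htv hv)), inf_le_left, htO, hd⟩
  · rcases (covBy_of_relIndex_prime inf_le_left (by rw [hi]; exact Nat.prime_two)).eq_or_eq hO
      (Op_le_syl hsyl) with e | e
    · rw [e, hi]
    · exact absurd (e ▸ htT) htO
  · exact mem_Ohm ⟨hQT (h.V_le hrV), le_cent1_iff.1 inf_le_right⟩ (h.V_abelem.2 _ hrV)

theorem le_of (h : ZL L) (hT : Syl 2 T L) (hN : L ⊓ 𝐍(BB T) ≤ M)
    (hP : ∀ P ≤ L, PP (BB T) P → P ≤ M) : L ≤ M := by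
  obtain ⟨F, hF⟩ := h.exists_ff
  have hVT := h.V_le.trans (Op_le_syl hT)
  have hTM : T ≤ M := (le_inf hT.le ((le_norm_self T).trans (norm_le_norm_BB T))).trans hN
  have hCM : L ⊓ 𝐂(ZZ L) ≤ M :=
    (le_inf inf_le_left ((h.cent_le hT).trans (norm_le_norm_BB T))).trans hN
  have hNM : ∀ E E', E' ≤ L → JJ T ≤ E → E' ⊓ 𝐍(T ⊓ E) ≤ M := fun E E' hE hJ =>
    (le_inf (inf_le_left.trans hE) ((inf_le_inf hE (norm_le_norm_JJ (le_inf (JJ_le T) hJ)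
      inf_le_left)).trans (h.norm_JJ hT))).trans hN
  have hFJ : ⁅F, JJ T⁆ ≤ M := commutator_le.2 fun f hf j hj => by
    refine ((JJ_le_iff.2 fun A hA => (hF.off A T hA hVT hT.le).trans ((closure_le _).2 fun t ht =>
      ⟨le_norm_self M (hTM (hA.1 ht.1)), ?_⟩) : JJ T ≤ cm f M) hj).2
    by_cases e : t ∈ 𝐂(ZZ L)
    · exact hCM (mul_mem ((normalIn_inf_cent (le_norm_ZZ L)).conj_mem (hF.normal.le hf)
        ⟨hT.le (hA.1 ht.1), e⟩) (inv_mem ⟨hT.le (hA.1 ht.1), e⟩))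
    · obtain ⟨x, T₁, Y, h1, h2, h3, h4, h5, h6, h7⟩ :=
        h.exists_par hF hT (hA.1 ht.1) (hA.2.1.2 t ht.1) ht.2 e
      obtain ⟨P, h8, h9, h10⟩ := h1.baumann fun e' =>
        h6 (e' (JJ_eq ((JJ_le_BB T).trans h4) h5 ▸ le_JJ hA ht.1))
      rw [BB_eq h4 h5] at h8
      exact sup_le (zpowers_le.2 ((h10.trans (sup_le (hP P (h9.trans h2) h8) (h5.trans hTM))) h3))
        hCM (h7 f hf)
  have hFM : F ≤ M := by
    have hL : F ⊔ JJ T ≤ L := sup_le hF.normal.le ((JJ_le T).trans hT.le)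
    have h1 : (⁅F, JJ T⁆ ⊔ JJ T) ⊴ (F ⊔ JJ T) := ⟨sup_le (commutator_normalIn_sup _ _).le
      le_sup_right, sup_le (le_norm_iff.2 fun f hf => conj_le_iff.1 (by
        rw [conj_sup, conj_eq_of_mem_norm (le_norm_commutator_left _ _ hf)]
        exact sup_le le_sup_left (conj_le_iff.2 fun j hj => by
          simpa [commutatorElement_def] using mul_mem
            (mem_sup_left (commutator_mem_commutator hf hj)) (mem_sup_right hj))))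
      (le_norm_of_le le_sup_right)⟩
    have h2 := (hT.inf_of_norm hL (le_norm_sup (hT.le.trans hF.normal.norm) ((le_norm_self T).trans
      (Transfer.normalizer_le_normalizer_thompsonSubgroupOf T)))).inf_normal h1
    rw [inf_assoc, inf_eq_right.2 h1.le] at h2
    exact le_sup_left.trans ((h2.frattini h1).sup_eq.ge.trans (sup_le (sup_le hFJ
      ((JJ_le T).trans hTM)) (hNM _ _ hL le_sup_right)))
  set S : Set G := {t | t ∈ L ∧ Tv (ZZ L) t}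
  have hSL : closure S ≤ L := (closure_le _).2 fun t ht => ht.1
  have hn := hSL.trans hF.normal.norm
  have hE : (closure S ⊔ F) ⊴ L := NormalIn.sup ⟨hSL, le_norm_closure fun g hg t ht =>
    ⟨conj_mem_of_norm (le_norm_self L hg) ht.1, ht.2.conj (le_norm_ZZ L hg)⟩⟩ hF.normal
  have hc : ∀ a ∈ closure S, ∀ b ∈ closure S, ⁅a, b⁆ ∈ F := fun a ha b hb => by
    refine (((closure_le _).2 fun t ht => ⟨hF.normal.norm ht.1, ?_⟩ : closure S ≤ cm a F) hb).2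
    rw [← commutatorElement_inv]
    exact inv_mem (((closure_le _).2 fun s hs => ⟨hF.normal.norm hs.1,
      hF.comm t ht.1 s hs.1 ht.2 hs.2⟩ : closure S ≤ cm t F) ha).2
  have hsq : ∀ a ∈ closure S, a ^ 2 ∈ F := fun a ha => by
    induction ha using closure_induction with
    | mem t ht => exact hF.cent ⟨pow_mem ht.1 2, Core.sq_mem_centralizer_of_relIndex_le_two
        h.V_abelem.2 (le_norm_ZZ L ht.1) ht.2⟩
    | one => simp
    | mul a b ha hb h1 h2 =>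
      have : (a * b) ^ 2 = a * ⁅b, a⁆ * a⁻¹ * a ^ 2 * b ^ 2 := by
        simp only [commutatorElement_def, sq]; group
      exact this ▸ mul_mem (mul_mem (conj_mem_of_norm (hn ha) (hc b hb a ha)) h1) h2
    | inv a _ h1 => exact inv_pow a 2 ▸ inv_mem h1
  have hi : IsPiNum {2} (F.relIndex (closure S ⊔ F)) := by
    rw [relIndex_sup_eq (Or.inl hn)]
    have := Core.normal_subgroupOf_of_le_normalizer hn
    obtain ⟨n, e⟩ := IsPGroup.iff_card.1 (show IsPGroup 2 (closure S ⧸ F.subgroupOf (closure S)) from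
      fun a => by
        obtain ⟨a, rfl⟩ := QuotientGroup.mk_surjective a
        exact ⟨1, by rw [← QuotientGroup.mk_pow, QuotientGroup.eq_one_iff]; exact hsq a a.2⟩)
    exact (e ▸ isPiNum_singleton_pow Nat.prime_two n :)
  exact ((hT.inf_normal hE).frattini hE).sup_eq.ge.trans (sup_le ((IsProd.of_coprime_relIndex
    le_sup_right inf_le_right (hi.coprime (hT.inf_normal hE).hall.compl)).sup_eq.ge.trans
    (sup_le hFM (inf_le_left.trans hTM))) (hNM _ _ le_rfl (le_sup_of_le_left (JJ_le_iff.2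
      fun A hA => (hF.off A T hA hVT hT.le).trans (closure_mono fun t ht =>
        ⟨hT.le (hA.1 ht.1), ht.2⟩)))))

theorem not_le (h : ZL L) (hT : Syl 2 T L) (hP : Par (BB T) P) (hPL : P ≤ L) :
    ¬ BB T ≤ 𝐂(ZZ P ⊓ ZZ L) := fun e => by
  have hn := normalIn_inf_cent (le_norm_inf (le_norm_ZZ P) (hPL.trans (le_norm_ZZ L)))
  refine hP.not_le_Q (hP.le_Q le_rfl ?_)
  by_cases e' : P ⊓ 𝐂(ZZ P ⊓ ZZ L) ≤ BB T
  · exact le_antisymm e' (le_inf hP.le e) ▸ hn.norm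
  · exact (le_inf hPL ((hP.max' e inf_le_left e' inf_le_right).trans (cent_anti (le_inf
      ((OZ_le_UU (JJ_le T) le_rfl).trans (OZ_BB T ▸ le_ZZ hP.syl)) (le_ZZ hT))))).trans
      ((h.norm T hT).trans (norm_le_norm_BB T))

theorem norm_sup (h : ZL L) (hT : Syl 2 T L) (h₁ : PP (BB T) P₁) (h₂ : PP (BB T) P₂) (hL₁ : P₁ ≤ L)
    (hL₂ : P₂ ≤ L) : P₁ ≤ 𝐍(ZZ P₁ ⊔ ZZ P₂) := by
  obtain ⟨F, hF⟩ := h.exists_ff
  have hZ : ZZ P₂ ≤ ZZ P₁ ⊔ ZZ P₂ ⊓ ZZ L := by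
    obtain ⟨A, hA, hAQ⟩ : ∃ A ∈ Transfer.maxElem 2 (BB T), ¬ A ≤ Op 2 P₂ := by
      simpa [JJ_le_iff] using h₂.2
    obtain ⟨v, hv, hv'⟩ : ∃ v ∈ ZZ P₂ ⊓ ZZ L, v ∉ Ohm 2 (Zc (BB T)) :=
      SetLike.not_le_iff_exists.1 fun e => h.not_le hT h₂.1 hL₂
        (le_cent_symm (e.trans ((Ohm_le _ _).trans inf_le_right)))
    have h1 := h₂.1.relIndex_cent hA hAQ
    have h2 : (Ohm 2 (Zc (BB T))).relIndex (ZZ P₂) ≠ 1 := fun e => hv' (relIndex_eq_one.1 e hv.1)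
    have h3 := relIndex_pos (Ohm 2 (Zc (BB T))) (ZZ P₂)
    exact le_of_relIndex_two (by omega) (le_sup_of_le_left (le_ZZ h₁.1.syl)) hv.1 hv'
      (mem_sup_right hv)
  obtain ⟨t, ht, htv, htQ⟩ : ∃ t ∈ BB T, Tv (ZZ L) t ∧ t ∉ Op 2 P₁ := by
    by_contra! e
    refine h₁.2 (JJ_le_iff.2 fun A hA => (hF.off A T (mem_maxElem_of_JJ (JJ_le_BB T) (BB_le T) hA)
      (h.V_le.trans (Op_le_syl hT)) hT.le).trans ((closure_le _).2 fun t ht => e t (hA.1 ht.1) ht.2))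
  obtain ⟨g, hg, hg'⟩ := h₁.1.exists_not_mem
  have hs := conj_mem_of_norm (le_norm_self _ hg) (h₁.1.le ht)
  refine h₁.1.max (le_norm_sup (h₁.1.le.trans (le_norm_ZZ _)) (h₂.1.le.trans (le_norm_ZZ _))) hs
    (h₁.1.conj_not_mem hg hg' ht htQ) (mem_norm_of_conj_le ?_)
  have hsv := htv.conj (le_norm_ZZ L (hL₁ hg))
  have hn := le_norm_inf (le_norm_ZZ P₁) (hL₁.trans (le_norm_ZZ L))
  obtain ⟨v, hv, hv'⟩ : ∃ v ∈ ZZ P₁ ⊓ ZZ L, ⁅v, g * t * g⁻¹⁆ ≠ 1 := by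
    by_contra! e
    refine h.not_le hT h₁.1 hL₁ (h₁.1.le_of (h₁.1.Q_le_cent.trans (cent_anti inf_le_left)) ht htQ
      ((mem_norm_iff.1 (le_norm_cent hn hg) t).2 fun v hv =>
        commutatorElement_eq_one_iff_mul_comm.1 (e v hv)))
  refine (conj_mono _ (sup_le le_sup_left hZ)).trans ?_
  rw [conj_sup, conj_eq_of_mem_norm (le_norm_ZZ _ hs)]
  refine sup_le le_sup_left (conj_le_iff.2 fun w hw => ?_)
  have : ⁅w, g * t * g⁻¹⁆ ∈ ZZ P₁ := by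
    by_cases e : ⁅w, g * t * g⁻¹⁆ = 1
    · exact e ▸ one_mem _
    · rw [hsv.comm_eq h.V_abelem (le_norm_ZZ L (hL₁ hs)) hw.2 hv.2 e hv']
      exact comm_mem_of_norm (le_norm_ZZ _ hs) hv.1
  simpa [commutatorElement_def, mul_assoc] using
    mul_mem (mem_sup_left (inv_mem this)) (mem_sup_right hw.1)

end ZL

end Cfsg.Agent.ZN
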