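import Mathlib
import Cfsg.Agent.Lib.ZN.Comp

/-!
# `ZN`-groups of local characteristic two: construction of the amalgam
-/

set_option autoImplicit false

namespace Cfsg.Agent.ZN

open Subgroup Cfsg.Agent.Coprime Cfsg.Agent.OO
open scoped Pointwise commutatorElement

universe u

variable {G : Type u} [Group G] {A B L M P P' S T U X Γ : Subgroup G} {g : G}

/-- `Γ` is a `ZN`-group of local characteristic two -/
structure ZG (Γ : Subgroup G) : Prop where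
  sol : ∀ X ≤ Γ, IsPGroup 2 X → X ≠ ⊥ → Sol (Γ ⊓ 𝐍(X))
  char : LocChar Γ
  norm : ∀ S, Syl 2 S Γ → Γ ⊓ 𝐂(Ohm 2 (Zc S)) ≤ 𝐍(S)

/-- `L` is a `2`-local subgroup of `Γ` -/
def Loc (Γ L : Subgroup G) : Prop := ∃ X ≤ Γ, IsPGroup 2 X ∧ X ≠ ⊥ ∧ L = Γ ⊓ 𝐍(X)

/-- `U ≠ 1` is a `2`-group in two maximal `2`-local subgroups -/
def Two (Γ U : Subgroup G) : Prop := IsPGroup 2 U ∧ U ≠ ⊥ ∧
  ∃ M₁ M₂, Maximal (Loc Γ) M₁ ∧ Maximal (Loc Γ) M₂ ∧ M₁ ≠ M₂ ∧ U ≤ M₁ ∧ U ≤ M₂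

/-- `B` is the Baumann subgroup of its `2`-overgroups in the `2`-local overgroups of `P` -/
def Cl (Γ B P : Subgroup G) : Prop := ∀ X ≤ Γ, IsPGroup 2 X → X ≠ ⊥ → P ≤ 𝐍(X) →
  ∀ T : Subgroup G, IsPGroup 2 T → B ≤ T → T ≤ Γ ⊓ 𝐍(X) → BB T = B

theorem BB_conj (g : G) (T : Subgroup G) : BB (g •ᶜ T) = g •ᶜ BB T := by
  rw [BB, UU_conj, cent_conj, ← conj_inf, BB]

theorem Loc.le (h : Loc Γ L) : L ≤ Γ := by
  obtain ⟨X, -, -, -, rfl⟩ := h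
  exact inf_le_left

theorem Loc.conj (h : Loc Γ L) (hg : g ∈ Γ) : Loc Γ (g •ᶜ L) := by
  obtain ⟨X, h1, h2, h3, rfl⟩ := h
  exact ⟨g •ᶜ X, conj_le_of_mem hg h1, isPGroup_conj.2 h2, by simpa using h3,
    by rw [conj_inf, norm_conj, conj_eq_of_mem hg]⟩

theorem Cl.conj (h : Cl Γ B P) (hg : g ∈ Γ) (hg' : g ∈ 𝐍(B)) : Cl Γ B (g •ᶜ P) :=
  fun X h1 h2 h3 h4 T h5 h6 h7 => by
    have := h (g⁻¹ •ᶜ X) (conj_le_of_mem (inv_mem hg) h1) (isPGroup_conj.2 h2) (conj_eq_bot_iff.not.2 h3)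
      (by rwa [norm_conj, ← conj_le_iff_le_inv_conj]) (g⁻¹ •ᶜ T) (isPGroup_conj.2 h5)
      (by rwa [← conj_le_iff_le_inv_conj, conj_eq_of_mem_norm hg'])
      (by rw [norm_conj, ← conj_eq_of_mem (inv_mem hg), ← conj_inf]; exact conj_mono _ h7)
    rwa [BB_conj, conj_eq_iff_eq_inv_conj, inv_inv, conj_eq_of_mem_norm hg'] at this

variable [Finite G]

theorem exists_mloc (h1 : X ≤ Γ) (h2 : IsPGroup 2 X) (h3 : X ≠ ⊥) :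
    ∃ M, Maximal (Loc Γ) M ∧ Γ ⊓ 𝐍(X) ≤ M := by
  obtain ⟨M, h4, h5⟩ := Finite.exists_le_maximal (p := Loc Γ) ⟨X, h1, h2, h3, rfl⟩
  exact ⟨M, h5, h4⟩

omit [Finite G] in
theorem Loc.Op_ne_bot (h : Loc Γ L) : Op 2 L ≠ ⊥ := by
  obtain ⟨X, h1, h2, h3, rfl⟩ := h
  exact fun e => h3 (le_bot_iff.1 (e ▸ le_Op ⟨le_inf h1 (le_norm_self X), inf_le_right⟩ h2))

theorem ZG.zl (h : ZG Γ) (hL : Loc Γ L) : ZL L := by
  obtain ⟨X, h1, h2, h3, rfl⟩ := hL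
  refine ⟨h.sol X h1 h2 h3, h.char X h1 h2 h3, fun T hT => ?_⟩
  obtain ⟨S, hS, hTS⟩ := exists_syl_ge (hT.le.trans inf_le_left) hT.isPGroup
  have hQ := Op_le_syl hT
  have h4 : Zc S ≤ 𝐂(T) := inf_le_right.trans (cent_anti hTS)
  have h5 : Zc S ≤ T := ((le_inf (le_inf (inf_le_left.trans hS.le) (h4.trans ((cent_anti
    ((le_Op ⟨le_inf h1 (le_norm_self X), inf_le_right⟩ h2).trans hQ)).trans (cent_le_norm X))))
    (h4.trans (cent_anti hQ))).trans (h.char X h1 h2 h3)).trans hQ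
  rw [← hT.eq_of_le (le_inf hTS hT.le) inf_le_right (hS.isPGroup.to_le inf_le_left)]
  refine le_norm_inf ((inf_le_inf inf_le_left (cent_anti (Ohm_mono 2 ?_))).trans (h.norm S hS))
    (le_norm_of_le inf_le_left)
  exact le_inf (le_inf inf_le_left (h5.trans hT.le)) (inf_le_right.trans (cent_anti inf_le_left))

theorem exists_stable (h : Two Γ U) : ∃ B, Two Γ B ∧ ∀ U, Two Γ U → B ≤ U → BB U = B := by
  obtain ⟨T, hT, hm⟩ := Set.exists_max_image {U | Two Γ U}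
    (fun U => toLex (rp 2 U, toLex (♯(JJ U), ♯(BB U)))) (Set.toFinite _) ⟨U, h⟩
  obtain ⟨h1, h2, M₁, M₂, h3, h4, h5, h6, h7⟩ := hT
  refine ⟨BB T, ⟨h1.to_le (BB_le T), BB_ne_bot h1 h2, M₁, M₂, h3, h4, h5, (BB_le T).trans h6,
    (BB_le T).trans h7⟩, fun U hU hB => ?_⟩
  have h8 := hm U hU
  obtain ⟨A₀, hA₀⟩ := exists_isEp_rp 2 T
  have h9 : ∀ A ∈ Transfer.maxElem 2 T, 2 ^ rp 2 T ≤ ♯A := fun A hA =>
    hA₀.card ▸ hA.2.2 _ hA₀.le hA₀.abelem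
  have hJ := (JJ_le_BB T).trans hB
  obtain ⟨A, hA⟩ := Transfer.exists_mem_maxElem (p := 2) T
  have e1 : rp 2 T ≤ rp 2 U := (Nat.pow_le_pow_iff_right one_lt_two).1
    ((h9 A hA).trans (card_le_pow_rp ((le_JJ hA).trans hJ) hA.2.1))
  simp only [Prod.Lex.toLex_le_toLex] at h8
  rcases h8 with h8 | ⟨e2, h8⟩
  · omega
  have e3 : JJ T ≤ JJ U := JJ_le_iff.2 fun A hA => le_JJ ⟨(le_JJ hA).trans hJ, hA.2.1,
    fun C h h' => (card_le_pow_rp h h').trans (e2 ▸ h9 A hA)⟩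
  rcases h8 with h8 | ⟨e4, h8⟩
  · exact absurd (card_le e3) h8.not_ge
  refine (eq_of_le_of_card_le (le_inf hB ?_) h8).symm
  rw [UU, ← eq_of_le_of_card_le e3 e4.le]
  exact inf_le_right

theorem ZG.exists_edge (h : ZG Γ) (hU : Two Γ U) : ∃ P P', P ≤ Γ ∧ P' ≤ Γ ∧ Edge P P' ∧
    Cl Γ (P ⊓ P') P ∧ Cl Γ (P ⊓ P') P' := by
  obtain ⟨B, ⟨hB, hB0, M₁, M₂, h1, h2, h3, h4, h5⟩, hm⟩ := exists_stable hU
  have hBΓ := h4.trans h1.1.le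
  have key : ∀ L M, Maximal (Loc Γ) L → Maximal (Loc Γ) M → L ≠ M → Γ ⊓ 𝐍(B) ≤ M →
      ∀ T : Subgroup G, IsPGroup 2 T → B ≤ T → T ≤ L → BB T = B := fun L M hL hM hne hN T hT e1 e2 => by
    have e3 := le_inf e1 (le_norm_self B)
    have := hm (T ⊓ 𝐍(B)) ⟨hT.to_le inf_le_left, fun e => hB0 (le_bot_iff.1 (e ▸ e3)), L, M, hL, hM,
      hne, inf_le_left.trans e2, (inf_le_inf_right _ (e2.trans hL.1.le)).trans hN⟩ e3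
    rwa [eq_of_nil_of_inf_norm_le (nil_of_isPGroup hT) inf_le_left
      (inf_le_inf_left _ ((norm_le_norm_BB _).trans (by rw [this])))] at this
  by_contra! hc
  set W := Ohm 2 (Zc B) ⊔ ⨆ P, ⨆ (_ : P ≤ Γ ∧ PP B P ∧ Cl Γ B P), ZZ P
  have hZW : ∀ P ≤ Γ, PP B P → Cl Γ B P → ZZ P ≤ W := fun P e1 e2 e3 => le_sup_of_le_right
    (le_iSup₂_of_le (f := fun P (_ : P ≤ Γ ∧ PP B P ∧ Cl Γ B P) => ZZ P) P ⟨e1, e2, e3⟩ le_rfl)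
  have hWB : W ≤ B := sup_le ((Ohm_le _ _).trans inf_le_left)
    (iSup₂_le fun P hP => hP.2.1.1.Z_le.trans hP.2.1.1.Q_le)
  obtain ⟨M, hM, hWM⟩ := exists_mloc (hWB.trans hBΓ) (hB.to_le hWB) fun e => Ohm_ne_bot
    (hB.to_le inf_le_left) (Zc_ne_bot (nil_of_isPGroup hB) hB0) (le_bot_iff.1 (e ▸ le_sup_left))
  have hN : Γ ⊓ 𝐍(B) ≤ M := le_trans (le_inf inf_le_left fun g hg => mem_norm_of_conj_le (by
    rw [conj_le_iff_le_inv_conj]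
    refine sup_le ?_ (iSup₂_le fun P hP => ?_) <;> rw [← conj_le_iff_le_inv_conj]
    · rw [← Ohm_conj, ← Zc_conj, conj_eq_of_mem_norm hg.2]
      exact le_sup_left
    · rw [← ZZ_conj]
      exact hZW _ (conj_le_of_mem hg.1 hP.1) (hP.2.1.conj hg.2) (hP.2.2.conj hg.1 hg.2))) hWM
  have hP : ∀ P ≤ Γ, PP B P → Cl Γ B P → P ≤ M := fun P e1 e2 e3 => by
    refine le_trans (le_inf e1 fun g hg => mem_norm_of_conj_le ?_) hWM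
    rw [conj_le_iff_le_inv_conj]
    refine sup_le ?_ (iSup₂_le fun P' hP' => ?_) <;> rw [← conj_le_iff_le_inv_conj]
    · exact (conj_le_of_mem_norm (le_norm_ZZ P hg) (le_ZZ e2.1.syl)).trans (hZW P e1 e2 e3)
    refine (conj_le_of_mem_norm (K := ZZ P ⊔ ZZ P') ?_ le_sup_right).trans
      (sup_le (hZW P e1 e2 e3) (hZW P' hP'.1 hP'.2.1 hP'.2.2))
    by_cases e : P ⊓ P' ≤ B
    · have e4 : P ⊓ P' = B := le_antisymm e (le_inf e2.1.le hP'.2.1.1.le)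
      obtain ⟨N, n1, n2, n3, n4⟩ : ∃ N ≤ B, P ≤ 𝐍(N) ∧ P' ≤ 𝐍(N) ∧ N ≠ ⊥ := by
        by_contra! e5
        exact hc P P' e1 hP'.1 ⟨e4 ▸ e2.1, e4 ▸ hP'.2.1.1, e4 ▸ e5⟩ (e4 ▸ e3) (e4 ▸ hP'.2.2)
      obtain ⟨T, hT, hBT⟩ := exists_syl_ge (e2.1.le.trans (le_inf e1 n2)) hB
      have e5 := e3 N (n1.trans hBΓ) (hB.to_le n1) n4 n2 T hT.isPGroup hBT hT.le
      exact (h.zl ⟨N, n1.trans hBΓ, hB.to_le n1, n4, rfl⟩).norm_sup hT (e5 ▸ e2) (e5 ▸ hP'.2.1)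
        (le_inf e1 n2) (le_inf hP'.1 n3) hg
    · rw [le_antisymm (hP'.2.1.1.max' e2.1.le inf_le_right e inf_le_left)
        (e2.1.max' hP'.2.1.1.le inf_le_left e inf_le_right), sup_idem]
      exact le_norm_ZZ P hg
  obtain ⟨L, hL, hne, hBL⟩ : ∃ L, Maximal (Loc Γ) L ∧ L ≠ M ∧ B ≤ L := by
    by_cases e : M₁ = M
    exacts [⟨M₂, h2, e ▸ h3.symm, h5⟩, ⟨M₁, h1, e, h4⟩]
  obtain ⟨T, hT, hBT⟩ := exists_syl_ge hBL hB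
  have e := key L M hL hM hne hN T hT.isPGroup hBT hT.le
  refine hne (hL.eq_of_le hM.1 ((h.zl hL.1).le_of hT (e ▸ (inf_le_inf_right _ hL.1.le).trans hN)
    fun P e1 e2 => by_contra fun e3 => e3 (hP P (e1.trans hL.1.le) (e ▸ e2)
      fun X x1 x2 x3 x4 T' t1 t2 t3 => ?_)))
  obtain ⟨L', hL', e4⟩ := exists_mloc x1 x2 x3
  exact key L' M hL' hM (fun e5 => e3 ((le_inf (e1.trans hL.1.le) x4).trans (e5 ▸ e4))) hN T' t1 t2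
    (t3.trans e4)

theorem exists_se (hO : Op 2 Γ = ⊥) (hS : Syl 2 S Γ) (h0 : S ≠ ⊥) (h : ∀ U, ¬ Two Γ U) :
    ∃ M, S ≤ M ∧ ¬ Γ ≤ M ∧ ∀ g ∈ Γ, g ∉ M → ¬ 2 ∣ ♯(M ⊓ g •ᶜ M) := by
  obtain ⟨M, hM, h1⟩ := exists_mloc hS.le hS.isPGroup h0
  refine ⟨M, (le_inf hS.le (le_norm_self S)).trans h1,
    fun e => hM.1.Op_ne_bot (by rwa [le_antisymm hM.1.le e]), fun g hg hg' h2 => ?_⟩
  obtain ⟨x, hx, ho⟩ := cauchy Nat.prime_two h2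
  refine h (zpowers x) ⟨isPGroup_zpowers_inv ho, by simpa using ne_one_of_inv ho, M, g •ᶜ M, hM,
    ⟨hM.1.conj hg, fun L hL e => ?_⟩, fun e => hg' ?_, zpowers_le.2 hx.1, zpowers_le.2 hx.2⟩
  · rw [le_conj_iff_inv_conj_le]
    exact hM.2 (hL.conj (inv_mem hg)) (conj_le_iff_le_inv_conj.1 e)
  · exact hM.2 ⟨Op 2 M, (Op_le _ _).trans hM.1.le, Op_isPGroup _ _, hM.1.Op_ne_bot, rfl⟩
      (le_inf hM.1.le (Op_normal 2 M).norm) ⟨hg, norm_le_norm_Op 2 M (conj_eq_self_iff.1 e.symm)⟩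

end Cfsg.Agent.ZN
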