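import Mathlib
import Cfsg.Agent.Lib.ZN.Main

/-!
# Coordinates for an amalgam of type `(S₄, S₄)` or `(S₄ × C₂, S₄ × C₂)`
-/

set_option autoImplicit false

namespace Cfsg.Agent.ZN

open Subgroup Cfsg.Agent.Coprime Cfsg.Agent.OO
open scoped Pointwise commutatorElement

universe u

variable {G : Type u} [Group G] {B P P' S T Γ : Subgroup G} {a b d g s t u v w x y z : G}

/-- an amalgam with elementary abelian `O₂`'s and `B' = ⟨z⟩` -/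
structure Fr (B P P' : Subgroup G) (z : G) : Prop where
  l : Par B P
  r : Par B P'
  triv : ∀ d ∈ B, d ∈ 𝐂(P) → d ∈ 𝐂(P') → d = 1
  ab : IsElementaryAbelian 2 (Op 2 P)
  ab' : IsElementaryAbelian 2 (Op 2 P')
  nle : ¬ Op 2 P ≤ Op 2 P'
  nle' : ¬ Op 2 P' ≤ Op 2 P
  comm : ∀ a ∈ Op 2 P, a ∉ Op 2 P' → ∀ b ∈ Op 2 P', b ∉ Op 2 P → ⁅a, b⁆ = z

/-- the four-group `⟨z, v⟩` -/
def VV (z v : G) : Subgroup G := zpowers z ⊔ zpowers v

theorem left_mem_VV (z v : G) : z ∈ VV z v := mem_sup_left (mem_zpowers z)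

theorem right_mem_VV (z v : G) : v ∈ VV z v := mem_sup_right (mem_zpowers v)

theorem VV_le (hz : z ∈ T) (hv : v ∈ T) : VV z v ≤ T := sup_le (zpowers_le.2 hz) (zpowers_le.2 hv)

theorem inv_eq_of_abelem (h : IsElementaryAbelian 2 T) (ha : a ∈ T) : a⁻¹ = a :=
  inv_eq_of_mul_eq_one_right (by rw [← sq, h.2 a ha])

theorem comm_of_abelem (h : IsElementaryAbelian 2 T) (ha : a ∈ T) (hb : b ∈ T) : a * b = b * a :=
  abelem_le_cent h hb a ha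

variable [Finite G]

theorem mem_VV (hz : orderOf z = 2) (hv : orderOf v = 2) (h : v ∈ 𝐂[z]) (hy : y ∈ VV z v) :
    y = 1 ∨ y = z ∨ y = v ∨ y = z * v := by
  obtain ⟨a, ha, b, hb, rfl⟩ := (mem_sup_norm_left (zpowers_le.2 (cent_le_norm _
    (by rwa [cent_zpowers])))).1 hy
  rcases (mem_zpowers_inv hz).1 ha with rfl | rfl <;> rcases (mem_zpowers_inv hv).1 hb with rfl | rfl <;>
    simp

theorem Edge.exists_fr (h : Edge P P') : ∃ z, Fr (P ⊓ P') P P' z := by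
  obtain ⟨h1, h2⟩ := h.abelem
  obtain ⟨a₀, ha₀, ha₀'⟩ := SetLike.not_le_iff_exists.1 h.not_le
  obtain ⟨b₀, hb₀, hb₀'⟩ := SetLike.not_le_iff_exists.1 h.symm.not_le
  refine ⟨⁅a₀, b₀⁆, h.left, h.right, fun d hd e e' => ?_, h1, h2, h.not_le, h.symm.not_le,
    fun a ha ha' b hb hb' => ?_⟩
  · simpa using h.triv (zpowers d) (zpowers_le.2 hd)
      (le_norm_of_le_cent (by rwa [cent_zpowers, le_cent1_iff]))
      (le_norm_of_le_cent (by rwa [cent_zpowers, le_cent1_iff]))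
  · have e1 : a₀⁻¹ * a ∈ Op 2 P' := (mul_mem_iff_of_relIndex_two h.right.idx2
      (h.left.Q_le (inv_mem ha₀)) (h.left.Q_le ha)).2 (by simp [ha', ha₀'])
    have e2 : b₀⁻¹ * b ∈ Op 2 P := (mul_mem_iff_of_relIndex_two h.left.idx2
      (h.right.Q_le (inv_mem hb₀)) (h.right.Q_le hb)).2 (by simp [hb', hb₀'])
    calc ⁅a, b⁆ = a₀ * (a₀⁻¹ * a * b) * (a₀⁻¹ * a)⁻¹ * a₀⁻¹ * b⁻¹ := by
          simp only [commutatorElement_def]; group
      _ = a₀ * b₀ * (a₀ * (b₀⁻¹ * b)⁻¹)⁻¹ * b⁻¹ := by rw [comm_of_abelem h2 e1 hb]; group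
      _ = _ := by rw [comm_of_abelem h1 ha₀ (inv_mem e2)]; simp only [commutatorElement_def]; group

namespace Fr

theorem idx (h : Fr B P P' z) : (Op 2 P').relIndex (Op 2 P) = 2 :=
  relIndex_two_of_le h.r.idx2 (h.r.le.trans (Op_normal 2 P').norm) h.l.Q_le h.nle

omit [Finite G] in
theorem exists_l (h : Fr B P P' z) : ∃ a ∈ Op 2 P, a ∉ Op 2 P' := SetLike.not_le_iff_exists.1 h.nle

omit [Finite G] in
theorem exists_r (h : Fr B P P' z) : ∃ a ∈ Op 2 P', a ∉ Op 2 P := SetLike.not_le_iff_exists.1 h.nle'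

theorem z_mem (h : Fr B P P' z) : z ∈ Op 2 P ⊓ Op 2 P' := by
  obtain ⟨a, ha, ha'⟩ := h.exists_l
  obtain ⟨b, hb, hb'⟩ := h.exists_r
  rw [← h.comm a ha ha' b hb hb']
  exact ⟨comm_mem_of_norm ((Op_normal 2 P).norm (h.l.le (h.r.Q_le hb))) ha,
    (Op 2 P').mul_mem ((Op_normal 2 P').conj_mem (h.r.le (h.l.Q_le ha)) hb) ((Op 2 P').inv_mem hb)⟩

theorem z_inv (h : Fr B P P' z) : z⁻¹ = z := inv_eq_of_abelem h.ab h.z_mem.1

theorem symm (h : Fr B P P' z) : Fr B P' P z :=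
  ⟨h.r, h.l, fun d e1 e2 e3 => h.triv d e1 e3 e2, h.ab', h.ab, h.nle', h.nle,
    fun a ha ha' b hb hb' => by rw [← commutatorElement_inv, h.comm b hb hb' a ha ha', h.z_inv]⟩

theorem le_cent (h : Fr B P P' z) : B ≤ 𝐂(Op 2 P ⊓ Op 2 P') :=
  h.l.le_of' ((abelem_le_cent h.ab).trans (cent_anti inf_le_left)) h.r.Q_le h.nle'
    ((abelem_le_cent h.ab').trans (cent_anti inf_le_right))

theorem cent_of_mem (h : Fr B P P' z) (hd : d ∈ Op 2 P ⊓ Op 2 P') (hb : b ∈ B) : b * d * b⁻¹ = d :=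
  mem_cent_iff_conj.1 (h.le_cent hb) d hd

theorem Zc_eq (h : Fr B P P' z) : Zc B = Op 2 P ⊓ Op 2 P' := le_antisymm (le_inf
  ((inf_le_inf h.l.le (cent_anti h.l.Q_le)).trans h.l.char)
  ((inf_le_inf h.r.le (cent_anti h.r.Q_le)).trans h.r.char))
  (le_inf (inf_le_left.trans h.l.Q_le) (le_cent_symm h.le_cent))

theorem conj_mem_D (h : Fr B P P' z) (hg : g ∈ 𝐍(B)) : d ∈ Op 2 P ⊓ Op 2 P' ↔
    g * d * g⁻¹ ∈ Op 2 P ⊓ Op 2 P' := by
  rw [← h.Zc_eq]; exact mem_norm_iff.1 (norm_le_norm_Zc B hg) d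

theorem mul_mem_D (h : Fr B P P' z) (ha : a ∈ Op 2 P) (ha' : a ∉ Op 2 P') (hb : b ∈ Op 2 P)
    (hb' : b ∉ Op 2 P') : a * b ∈ Op 2 P ⊓ Op 2 P' :=
  ⟨(Op 2 P).mul_mem ha hb, (mul_mem_iff_of_relIndex_two h.idx ha hb).2 (by simp [ha', hb'])⟩

omit [Finite G] in
theorem mul_mem_Q (h : Fr B P P' z) (ha : a ∈ B) (ha' : a ∉ Op 2 P) (hb : b ∈ B)
    (hb' : b ∉ Op 2 P) : a * b ∈ Op 2 P :=
  (mul_mem_iff_of_relIndex_two h.l.idx2 ha hb).2 (by simp [ha', hb'])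

/-- action of `B \ Q` on `Q \ Q'` -/
theorem act (h : Fr B P P' z) (hb : b ∈ B) (hb' : b ∉ Op 2 P) (ha : a ∈ Op 2 P) (ha' : a ∉ Op 2 P') :
    b * a * b⁻¹ = z * a := by
  obtain ⟨t, ht, ht'⟩ := h.exists_r
  have h1 := h.mul_mem_Q (inv_mem (h.r.Q_le ht)) (fun e => ht' (inv_mem_iff.1 e)) hb hb'
  rw [← h.symm.comm t ht ht' a ha ha']
  calc b * a * b⁻¹ = t * (t⁻¹ * b * a) * b⁻¹ := by group
    _ = _ := by rw [comm_of_abelem h.ab h1 ha]; simp only [commutatorElement_def]; group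

theorem z_ne (h : Fr B P P' z) : z ≠ 1 := fun e => by
  obtain ⟨t, ht, ht'⟩ := h.exists_r
  refine ht' (h.l.char ⟨h.l.le (h.r.Q_le ht), fun a ha => ?_⟩)
  by_cases ha' : a ∈ Op 2 P'
  · exact comm_of_abelem h.ab' ha' ht
  · exact commutatorElement_eq_one_iff_mul_comm.1 (e ▸ h.comm a ha ha' t ht ht')

theorem z_ord (h : Fr B P P' z) : orderOf z = 2 := inv_of_abelem h.ab h.z_mem.1 h.z_ne

theorem sq_eq (h : Fr B P P' z) (hy : y ∈ B) (h1 : y ∉ Op 2 P) (h2 : y ∉ Op 2 P') : y ^ 2 = z := by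
  obtain ⟨t, ht, ht'⟩ := h.exists_r
  have h3 := h.mul_mem_Q hy h1 (h.r.Q_le ht) ht'
  rw [← h.comm _ h3 (fun e => h2 ((Subgroup.mul_mem_cancel_right _ ht).1 e)) t ht ht',
    commutatorElement_def, inv_eq_of_abelem h.ab h3, sq]
  calc y * y = y * t * t⁻¹ * (y * t) * t⁻¹ := by group
    _ = _ := by rw [inv_eq_of_abelem h.ab' ht]

theorem mem_or (h : Fr B P P' z) (hy : y ∈ B) (h1 : y ^ 2 = 1) : y ∈ Op 2 P ∨ y ∈ Op 2 P' := by
  by_contra! e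
  exact h.z_ne (h.sq_eq hy e.1 e.2 ▸ h1)

theorem eq_of_sq (h : Fr B P P' z) (hy : y ∈ B) (h1 : y ^ 2 ≠ 1) : y ^ 2 = z :=
  h.sq_eq hy (fun e => h1 (h.ab.2 y e)) fun e => h1 (h.ab'.2 y e)

theorem norm_le (h : Fr B P P' z) : 𝐍(B) ≤ 𝐂[z] := fun g hg => by
  obtain ⟨a, ha, ha'⟩ := h.exists_l
  obtain ⟨b, hb, hb'⟩ := h.exists_r
  have h1 := mul_mem (h.l.Q_le ha) (h.r.Q_le hb)
  have h2 := h.sq_eq h1 (fun e => hb' ((Subgroup.mul_mem_cancel_left _ ha).1 e))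
    fun e => ha' ((Subgroup.mul_mem_cancel_right _ hb).1 e)
  have h3 := h.eq_of_sq (conj_mem_of_norm hg h1) (by rw [conj_pow, h2]; exact conj_ne_one.2 h.z_ne)
  rwa [conj_pow, h2, ← mem_cent1_iff_conj] at h3

theorem z_not_cent (h : Fr B P P' z) : z ∉ 𝐂(P) := fun e => by
  obtain ⟨t, ht, ht'⟩ := h.exists_r
  obtain ⟨x, hx, hx'⟩ := h.l.exists_not_mem
  have htB := h.r.Q_le ht
  have hn := (Op_normal 2 P).norm
  have hz : P ≤ 𝐂(zpowers z) := by rwa [cent_zpowers, le_cent1_iff]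
  have h1 : ∀ a ∈ Op 2 P, ⁅a, t⁆ ∈ zpowers z := fun a ha => by
    by_cases ha' : a ∈ Op 2 P'
    · exact commutatorElement_eq_one_iff_mul_comm.2 (comm_of_abelem h.ab' ha' ht) ▸ one_mem _
    · exact h.comm a ha ha' t ht ht' ▸ mem_zpowers _
  have hs := conj_mem_of_norm (le_norm_self P hx) (h.l.le htB)
  have hy := mul_mem hs (h.l.le htB)
  have h2 : (x * t * x⁻¹ * t) ^ 2 ∈ Op 2 P := h.l.char ⟨pow_mem hy 2, fun a ha => by
    have h3 : x * t * x⁻¹ * t ∈ cm a (zpowers z) := (cm a _).mul_mem ⟨cent_le_norm _ (hz hs), by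
      simpa [commutatorElement_def, mul_assoc] using conj_mem_of_norm (cent_le_norm _ (hz hx))
        (h1 _ (conj_mem_of_norm' (hn hx) ha))⟩ ⟨cent_le_norm _ (hz (h.l.le htB)), h1 a ha⟩
    have h4 := h.ab.2 _ (zpowers_le.2 h.z_mem.1 h3.2)
    have h5 := hz hy _ h3.2
    generalize x * t * x⁻¹ * t = y at *
    rw [← commutatorElement_eq_one_iff_mul_comm, ← h4, sq ⁅a, y⁆]
    calc ⁅a, y ^ 2⁆ = ⁅a, y⁆ * (y * ⁅a, y⁆) * y⁻¹ := by simp only [commutatorElement_def, sq]; group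
      _ = _ := by rw [← h5]; group⟩
  refine h.l.conj_ne hs (h.l.conj_not_mem hx hx' htB ht') (eq_of_le_of_card_le ?_ (card_conj _ _).ge)
  rw [conj_le_iff_le_inv_conj]
  refine h.l.le_of (by rw [← conj_le_iff_le_inv_conj, conj_eq_of_mem_norm (hn hs)]; exact h.l.Q_le)
    htB ht' (mem_conj.2 ?_)
  have h3 := mul_mem (h.l.Q_le h2) (inv_mem htB)
  rw [inv_inv, conj_inv, inv_eq_of_abelem h.ab' ht]
  simpa [sq, mul_assoc] using h3

theorem mem_cent (h : Fr B P P' z) (hx : x ∈ P) (hx' : x ∉ B) (hd : d ∈ Op 2 P ⊓ Op 2 P')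
    (hd' : x * d * x⁻¹ ∈ Op 2 P') : d ∈ 𝐂(P) := by
  have h1 : x * d * x⁻¹ ∈ Op 2 P ⊓ Op 2 P' := ⟨(Op_normal 2 P).conj_mem hx hd.1, hd'⟩
  have := h.l.gen (h.l.conj_of_mem hx) (h.l.conj_ne hx hx').symm (h.le_cent.trans (cent_le_cent1 h1))
    le_rfl (h.l.conj_of_mem hx).not_le_Q
    (by rw [cent1_conj]; exact conj_mono _ (h.le_cent.trans (cent_le_cent1 hd)))
  rwa [cent1_conj, ← conj_eq_of_mem hx, conj_le_conj_iff, le_cent1_iff] at this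

theorem v_mem (h : Fr B P P' z) (hx : x ∈ P) : x * z * x⁻¹ ∈ Op 2 P :=
  (Op_normal 2 P).conj_mem hx h.z_mem.1

theorem v_not_mem (h : Fr B P P' z) (hx : x ∈ P) (hx' : x ∉ B) : x * z * x⁻¹ ∉ Op 2 P' := fun e =>
  h.z_not_cent (h.mem_cent hx hx' h.z_mem e)

theorem cent_or (h : Fr B P P' z) (hd : d ∈ Op 2 P ⊓ Op 2 P') : d ∈ 𝐂(P) ∨ d * z ∈ 𝐂(P) := by
  obtain ⟨x, hx, hx'⟩ := h.l.exists_not_mem
  by_cases e : x * d * x⁻¹ ∈ Op 2 P'
  · exact Or.inl (h.mem_cent hx hx' hd e)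
  · exact Or.inr (h.mem_cent hx hx' (mul_mem hd h.z_mem) (by simpa [mul_assoc] using
      (h.mul_mem_D ((Op_normal 2 P).conj_mem hx hd.1) e (h.v_mem hx) (h.v_not_mem hx hx')).2))

theorem VV_le_Oup (h : Fr B P P' z) (hP : P ≤ Γ) (hx : x ∈ P) : VV z (x * z * x⁻¹) ≤ Oup 2 Γ := by
  have hn := hP.trans (Oup_normal 2 Γ).norm
  suffices hz : z ∈ Oup 2 Γ from VV_le hz (conj_mem_of_norm (hn hx) hz)
  obtain ⟨k, hk, hk'⟩ : ∃ k ∈ Oup 2 P, k ∉ B := SetLike.not_le_iff_exists.1 fun e => by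
    obtain ⟨x, hx, hx'⟩ := h.l.exists_not_mem
    exact hx' (((Oup_isProd h.l.syl).sup_eq.ge.trans (sup_le e le_rfl)) hx)
  obtain ⟨t, ht, ht'⟩ := h.exists_r
  have hkP := Oup_le 2 P hk
  have h1 := comm_mem_of_norm (hn (h.l.le (h.l.Q_le h.z_mem.1))) (Oup_mono 2 hP hk)
  have h2 := comm_mem_of_norm (hn (h.l.le (h.r.Q_le ht))) h1
  rwa [h.comm ⁅k, z⁆ (mul_mem (h.v_mem hkP) (inv_mem h.z_mem).1) (fun e => h.v_not_mem hkP hk'
    ((Subgroup.mul_mem_cancel_right _ (inv_mem h.z_mem).2).1 e)) t ht ht'] at h2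

theorem mem_VV (h : Fr B P P' z) (hx : x ∈ P) (hy : y ∈ VV z (x * z * x⁻¹)) :
    y = 1 ∨ y = z ∨ y = x * z * x⁻¹ ∨ y = z * (x * z * x⁻¹) :=
  ZN.mem_VV h.z_ord (by rw [orderOf_conj, h.z_ord])
    (mem_cent1.2 (comm_of_abelem h.ab (h.v_mem hx) h.z_mem.1)) hy

theorem VV_inf (h : Fr B P P' z) (hx : x ∈ P) (hx' : x ∉ B) :
    VV z (x * z * x⁻¹) ⊓ Op 2 P' ≤ zpowers z := fun y hy => by
  rcases h.mem_VV hx hy.1 with rfl | rfl | rfl | rfl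
  · exact one_mem _
  · exact mem_zpowers _
  · exact absurd hy.2 (h.v_not_mem hx hx')
  · exact absurd ((Subgroup.mul_mem_cancel_left _ h.z_mem.2).1 hy.2) (h.v_not_mem hx hx')

theorem VV_conj (h : Fr B P P' z) (hx : x ∈ P) (hx' : x ∉ B) (hy : y ∈ VV z (x * z * x⁻¹))
    (h1 : y ≠ 1) : ∃ g ∈ P, y = g * z * g⁻¹ := by
  rcases h.mem_VV hx hy with rfl | rfl | rfl | rfl
  · exact absurd rfl h1
  · exact ⟨1, one_mem _, by simp⟩
  · exact ⟨x, hx, rfl⟩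
  · obtain ⟨t, ht, ht'⟩ := h.exists_r
    exact ⟨t * x, mul_mem (h.l.le (h.r.Q_le ht)) hx, by
      rw [← h.act (h.r.Q_le ht) ht' (h.v_mem hx) (h.v_not_mem hx hx')]; group⟩

theorem norm_VV (h : Fr B P P' z) (hx : x ∈ P) (hx' : x ∉ B) : B ≤ 𝐍(VV z (x * z * x⁻¹)) :=
  fun b hb => mem_norm_of_conj_le (by
    rw [VV, conj_sup, conj_zpowers, conj_zpowers, h.cent_of_mem h.z_mem hb]
    refine sup_le le_sup_left (zpowers_le.2 ?_)
    by_cases e : b ∈ Op 2 P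
    · rw [comm_of_abelem h.ab e (h.v_mem hx), mul_inv_cancel_right]
      exact right_mem_VV _ _
    · rw [h.act hb e (h.v_mem hx) (h.v_not_mem hx hx')]
      exact mul_mem (left_mem_VV _ _) (right_mem_VV _ _))

theorem card_VV (h : Fr B P P' z) (hx : x ∈ P) (hx' : x ∉ B) : ♯(VV z (x * z * x⁻¹)) = 2 ^ 2 := by
  rw [VV, PGrp.card_sup_zpowers (p := 2) (cent_le_norm _ (by
    rw [cent_zpowers]; exact mem_cent1.2 (comm_of_abelem h.ab (h.v_mem hx) h.z_mem.1)))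
    (fun e => h.v_not_mem hx hx' (zpowers_le.2 h.z_mem.2 e))
    (by rw [h.ab.2 _ (h.v_mem hx)]; exact one_mem _), Nat.card_zpowers, h.z_ord, sq]

theorem D_cases (h : Fr B P P' z) (hu : u ∈ Op 2 P ⊓ Op 2 P') (hu1 : u ≠ 1) (huP : u ∈ 𝐂(P))
    (hd : d ∈ Op 2 P ⊓ Op 2 P') : d = 1 ∨ d = z ∨ d = u ∨ d = u * z := by
  have hB : Op 2 P ⊓ Op 2 P' ≤ B := inf_le_left.trans h.l.Q_le
  have h1 : u * z ∈ 𝐂(P') := (h.symm.cent_or hu.symm).resolve_left fun e => hu1 (h.triv u (hB hu) huP e)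
  have h2 : ∀ d ∈ Op 2 P ⊓ Op 2 P', d ∈ 𝐂(P) → d = 1 ∨ d = u := fun d hd e => by
    rcases h.symm.cent_or hd.symm with e' | e'
    · exact Or.inl (h.triv d (hB hd) e e')
    · exact Or.inr (mul_inv_eq_one.1 (h.triv _ (hB (mul_mem hd (inv_mem hu))) (mul_mem e (inv_mem huP))
        (by simpa [mul_assoc] using mul_mem e' (inv_mem h1))))
  rcases h.cent_or hd with e | e
  · rcases h2 d hd e with e | e <;> simp [e]
  · rcases h2 _ (mul_mem hd h.z_mem) e with e | e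
    · exact Or.inr (Or.inl (by rw [mul_eq_one_iff_eq_inv.1 e, h.z_inv]))
    · exact Or.inr (Or.inr (Or.inr (by rw [← e, mul_assoc, mul_self_of_inv h.z_ord, mul_one])))

end Fr

end Cfsg.Agent.ZN
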