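import Mathlib
import Cfsg.Agent.Lib.ZN.Frame

/-!
# `ZN`-groups of local characteristic two: the Sylow subgroup
-/

set_option autoImplicit false

namespace Cfsg.Agent.ZN

open Subgroup Cfsg.Agent.Coprime Cfsg.Agent.OO
open scoped Pointwise commutatorElement

universe u

variable {G : Type u} [Group G] {B E K M P P' S T X Γ : Subgroup G} {a b d g s t u v w x x' y z : G}

/-- the case `P ≅ S₄ × C₂`, `Z(P) = ⟨u⟩` -/
structure Big (Γ B P P' : Subgroup G) (z u : G) : Prop where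
  fr : Fr B P P' z
  le : P ≤ Γ
  le' : P' ≤ Γ
  cl : Cl Γ B P
  cl' : Cl Γ B P'
  mem : u ∈ Op 2 P ⊓ Op 2 P'
  ne : u ≠ 1
  cent : u ∈ 𝐂(P)

variable [Finite G]

theorem exists_conj_mem' (hS : Syl 2 S Γ) (hM : M ≤ S) (hi : M.relIndex S = 2) (ht : t ∈ Oup 2 Γ)
    (h2 : t ^ 2 = 1) : ∃ g ∈ Γ, g * t * g⁻¹ ∈ M := by
  obtain ⟨t, ht, rfl⟩ := ht
  obtain ⟨P, hP, -⟩ := hS.exists_sylow
  obtain ⟨g, hg⟩ := exists_conj_mem (M := M.subgroupOf Γ) (S := S.subgroupOf Γ)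
    (hP ▸ isSylowIn_top P) (comap_mono hM)
    (by rwa [relIndex_subgroupOf hS.le]) ht (Subtype.ext h2)
  exact ⟨g, g.2, hg⟩

theorem Fr.inf_cent_le (h : Fr B P P' z) (hT : BB T = B) : T ⊓ 𝐂(Op 2 P ⊓ Op 2 P') ≤ B := by
  refine le_trans (inf_le_inf_left _ (cent_anti ?_)) hT.le
  rw [← OZ_BB, hT, ← h.Zc_eq]
  exact Ohm_le _ _

theorem Fr.K_inf (h : Fr B P P' z) (hx : x ∈ P) (hxB : x ∉ B) (hx' : x' ∈ P') (hxB' : x' ∉ B) :
    (VV z (x * z * x⁻¹) ⊔ VV z (x' * z * x'⁻¹)) ⊓ Op 2 P ≤ VV z (x * z * x⁻¹) := by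
  rw [sup_inf_of_le_left (Or.inr ((VV_le h.z_mem.2 (h.symm.v_mem hx')).trans (h.r.Q_le.trans
    (h.norm_VV hx hxB)))) (VV_le h.z_mem.1 (h.v_mem hx))]
  exact sup_le le_rfl ((h.symm.VV_inf hx' hxB').trans le_sup_left)

theorem Fr.K_le (h : Fr B P P' z) (hx : x ∈ P) (hx' : x' ∈ P') :
    VV z (x * z * x⁻¹) ⊔ VV z (x' * z * x'⁻¹) ≤ B :=
  sup_le ((VV_le h.z_mem.1 (h.v_mem hx)).trans h.l.Q_le)
    ((VV_le h.z_mem.2 (h.symm.v_mem hx')).trans h.r.Q_le)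

namespace Big

theorem symm (h : Big Γ B P P' z u) : Big Γ B P' P z (u * z) :=
  ⟨h.fr.symm, h.le', h.le, h.cl', h.cl, (mul_mem h.mem h.fr.z_mem).symm,
    fun e => h.fr.z_not_cent ((Subgroup.mul_mem_cancel_left _ h.cent).1 (e ▸ one_mem _)),
    (h.fr.symm.cent_or h.mem.symm).resolve_left fun e =>
      h.ne (h.fr.triv u (h.fr.l.Q_le h.mem.1) h.cent e)⟩

omit [Finite G] in
theorem le_Γ (h : Big Γ B P P' z u) : B ≤ Γ := h.fr.l.le.trans h.le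

theorem u_mem (h : Big Γ B P P' z u) : u ∈ B := h.fr.l.Q_le h.mem.1

theorem mul_z_z (h : Big Γ B P P' z u) : u * z * z = u := by
  rw [mul_assoc, mul_self_of_inv h.fr.z_ord, mul_one]

theorem syl (h : Big Γ B P P' z u) : Syl 2 B (Γ ⊓ 𝐂[u]) := by
  refine syl_of_max (le_inf h.le_Γ (h.fr.le_cent.trans (cent_le_cent1 h.mem))) h.fr.l.syl.isPGroup
    fun T h1 h2 h3 => le_antisymm ?_ h1
  have h4 := h.cl (zpowers u) (zpowers_le.2 (h.le_Γ h.u_mem))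
    (h.fr.l.syl.isPGroup.to_le (zpowers_le.2 h.u_mem)) (by simpa using h.ne)
    (le_norm_of_le_cent (by rw [cent_zpowers, le_cent1_iff]; exact h.cent)) T h3 h1
    (h2.trans (inf_le_inf_left _ (cent_zpowers u ▸ cent_le_norm _)))
  have h5 : T ≤ 𝐂[z] := (le_norm_self T).trans ((norm_le_norm_BB T).trans (h4 ▸ h.fr.norm_le))
  refine (le_inf le_rfl (le_cent_symm fun d hd => ?_)).trans (h.fr.inf_cent_le h4)
  rcases h.fr.D_cases h.mem h.ne h.cent hd with rfl | rfl | rfl | rfl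
  exacts [one_mem _, le_cent1_iff.1 h5, le_cent1_iff.1 (h2.trans inf_le_right),
    mul_mem (le_cent1_iff.1 (h2.trans inf_le_right)) (le_cent1_iff.1 h5)]

theorem exists_le (h : Big Γ B P P' z u) (hg : g ∈ Γ) (hT : IsPGroup 2 T)
    (h1 : T ≤ Γ ⊓ 𝐂[g * u * g⁻¹]) : ∃ k ∈ Γ, k * u * k⁻¹ = g * u * g⁻¹ ∧ T ≤ k •ᶜ B := by
  have := h.syl.conj g
  rw [conj_inf, conj_eq_of_mem hg, ← cent1_conj] at this
  obtain ⟨c, hc, h2⟩ := this.exists_le_conj' h1 hT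
  exact ⟨c * g, mul_mem hc.1 hg, by rw [← mem_cent1_iff_conj.1 hc.2]; group, by rwa [← conj_conj]⟩

theorem not_conj (h : Big Γ B P P' z u) (hg : g ∈ Γ) : g * u * g⁻¹ ≠ z := fun e => by
  obtain ⟨k, -, h1, h2⟩ := h.exists_le hg h.fr.l.syl.isPGroup
    (le_inf h.le_Γ (e ▸ h.fr.le_cent.trans (cent_le_cent1 h.fr.z_mem)))
  have h3 := mem_cent1_iff_conj.1 (h.fr.norm_le (conj_eq_self_iff.1
    (eq_of_le_of_card_le h2 (card_conj _ _).le).symm))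
  rw [e, ← h3, mul_left_inj, mul_right_inj] at h1
  exact h.fr.z_not_cent (h1 ▸ h.cent)

theorem not_conj' (h : Big Γ B P P' z u) (hg : g ∈ Γ) (ha : a ∈ Γ) : g * z * g⁻¹ ≠ a * u * a⁻¹ :=
  fun e => h.not_conj (mul_mem (inv_mem hg) ha) (by
    calc _ = g⁻¹ * (a * u * a⁻¹) * g := by group
      _ = _ := by rw [← e]; group)

theorem mem_VV (h : Big Γ B P P' z u) (hx : x ∈ P) (hxB : x ∉ B) (hg : g ∈ Γ)
    (hy : g * z * g⁻¹ ∈ Op 2 P) : g * z * g⁻¹ ∈ VV z (x * z * x⁻¹) := by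
  have h3 : x * (u * z) * x⁻¹ = u * (x * z * x⁻¹) := by rw [← mul_assoc, h.cent x hx]; group
  by_cases e : g * z * g⁻¹ ∈ Op 2 P'
  · rcases h.fr.D_cases h.mem h.ne h.cent ⟨hy, e⟩ with e | e | e | e
    · exact e ▸ one_mem _
    · exact e.symm ▸ left_mem_VV _ _
    · exact absurd (by simpa using e) (h.not_conj' hg (one_mem _))
    · exact absurd (by simpa using e) (h.symm.not_conj' hg (one_mem _))
  · have hv := h.fr.v_mem hx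
    have hv' := h.fr.v_not_mem hx hxB
    rcases h.fr.D_cases h.mem h.ne h.cent (h.fr.mul_mem_D hy e hv hv') with e | e | e | e <;>
      rw [← eq_mul_inv_iff_mul_eq, inv_eq_of_abelem h.fr.ab hv] at e
    · exact e.symm ▸ mul_mem (one_mem _) (right_mem_VV _ _)
    · exact e.symm ▸ mul_mem (left_mem_VV _ _) (right_mem_VV _ _)
    · exact absurd (e.trans h3.symm) (h.symm.not_conj' hg (h.le hx))
    · obtain ⟨t, ht, ht'⟩ := h.fr.exists_r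
      have htB := h.fr.r.Q_le ht
      refine absurd (e.trans ?_) (h.symm.not_conj' hg (mul_mem (h.le_Γ htB) (h.le hx)))
      calc u * z * (x * z * x⁻¹) = t * u * t⁻¹ * (t * (x * z * x⁻¹) * t⁻¹) := by
            rw [h.fr.act htB ht' hv hv', h.fr.cent_of_mem h.mem htB, mul_assoc]
        _ = t * (x * (u * z) * x⁻¹) * t⁻¹ := by rw [h3]; group
        _ = _ := by group

theorem not_conj_mem (h : Big Γ B P P' z u) (hx : x ∈ P) (hxB : x ∉ B) (hx' : x' ∈ P') (hxB' : x' ∉ B)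
    (hg : g ∈ Γ) : g * u * g⁻¹ ∉ VV z (x * z * x⁻¹) ⊔ VV z (x' * z * x'⁻¹) := fun e => by
  have h1 := conj_ne_one (g := g).2 h.ne
  obtain ⟨k, hk, h2⟩ : ∃ k ∈ Γ, g * u * g⁻¹ = k * z * k⁻¹ := by
    rcases h.fr.mem_or (h.fr.K_le hx hx' e) (by simp [conj_pow, h.fr.ab.2 u h.mem.1]) with e' | e'
    · obtain ⟨k, hk, h2⟩ := h.fr.VV_conj hx hxB (h.fr.K_inf hx hxB hx' hxB' ⟨e, e'⟩) h1
      exact ⟨k, h.le hk, h2⟩
    · obtain ⟨k, hk, h2⟩ := h.fr.symm.VV_conj hx' hxB'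
        (h.fr.symm.K_inf hx' hxB' hx hxB ⟨by rwa [sup_comm], e'⟩) h1
      exact ⟨k, h.le' hk, h2⟩
  exact h.not_conj' hk hg h2.symm

theorem mem_or (h : Big Γ B P P' z u) (hx : x ∈ P) (hxB : x ∉ B) (hx' : x' ∈ P') (hxB' : x' ∉ B)
    (hb : b ∈ B) : b * u ∈ VV z (x * z * x⁻¹) ⊔ VV z (x' * z * x'⁻¹) ∨
      b ∈ VV z (x * z * x⁻¹) ⊔ VV z (x' * z * x'⁻¹) := by
  set K := VV z (x * z * x⁻¹) ⊔ VV z (x' * z * x'⁻¹)
  have hz : z ∈ K := mem_sup_left (left_mem_VV _ _)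
  have h0 : ∀ k ∈ K, ∀ b, k * b * u ∈ K ∨ k * b ∈ K → b * u ∈ K ∨ b ∈ K := fun k hk b h => by
    rwa [mul_assoc, K.mul_mem_cancel_left hk, K.mul_mem_cancel_left hk] at h
  have h1 : ∀ d ∈ Op 2 P ⊓ Op 2 P', d * u ∈ K ∨ d ∈ K := fun d hd => by
    have hu : u * u = 1 := by rw [← sq, h.fr.ab.2 u h.mem.1]
    rcases h.fr.D_cases h.mem h.ne h.cent hd with rfl | rfl | rfl | rfl
    · exact Or.inr (one_mem _)
    · exact Or.inr hz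
    · exact Or.inl (hu ▸ one_mem _)
    · exact Or.inl (by rwa [comm_of_abelem h.fr.ab h.mem.1 h.fr.z_mem.1, mul_assoc, hu, mul_one])
  have h2 : ∀ a ∈ Op 2 P, a * u ∈ K ∨ a ∈ K := fun a ha => by
    by_cases e : a ∈ Op 2 P'
    · exact h1 a ⟨ha, e⟩
    · exact h0 _ (mem_sup_left (right_mem_VV _ _)) a
        (h1 _ (h.fr.mul_mem_D (h.fr.v_mem hx) (h.fr.v_not_mem hx hxB) ha e))
  by_cases e : b ∈ Op 2 P
  · exact h2 b e
  · exact h0 _ (mem_sup_right (right_mem_VV _ _)) b (h2 _ (h.fr.mul_mem_Q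
      (h.fr.r.Q_le (h.fr.symm.v_mem hx')) (h.fr.symm.v_not_mem hx' hxB') hb e))

theorem norm_K (h : Big Γ B P P' z u) (hx : x ∈ P) (hxB : x ∉ B) (hx' : x' ∈ P') (hxB' : x' ∉ B) :
    Γ ⊓ 𝐍(B) ≤ 𝐍(VV z (x * z * x⁻¹) ⊔ VV z (x' * z * x'⁻¹)) := fun g hg => by
  have h1 : ∀ k ∈ Γ, k * z * k⁻¹ ∈ B → VV z (k * z * k⁻¹) ≤
      g⁻¹ •ᶜ (VV z (x * z * x⁻¹) ⊔ VV z (x' * z * x'⁻¹)) := fun k hk hB => by
    refine VV_le (mem_conj.2 ?_) (mem_conj.2 ?_) <;> rw [inv_inv]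
    · rw [mem_cent1_iff_conj.1 (h.fr.norm_le hg.2)]
      exact mem_sup_left (left_mem_VV _ _)
    · have h2 := conj_mem_of_norm hg.2 hB
      rw [show g * (k * z * k⁻¹) * g⁻¹ = g * k * z * (g * k)⁻¹ by group] at h2 ⊢
      rcases h.fr.mem_or h2 (by rw [conj_pow, h.fr.ab.2 z h.fr.z_mem.1]; simp) with e | e
      exacts [mem_sup_left (h.mem_VV hx hxB (mul_mem hg.1 hk) e),
        mem_sup_right (h.symm.mem_VV hx' hxB' (mul_mem hg.1 hk) e)]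
  exact mem_norm_of_conj_le (conj_le_iff_le_inv_conj.2 (sup_le
    (h1 x (h.le hx) (h.fr.l.Q_le (h.fr.v_mem hx)))
    (h1 x' (h.le' hx') (h.fr.r.Q_le (h.fr.symm.v_mem hx')))))

theorem mem_B (h : Big Γ B P P' z u) (hS : Syl 2 S Γ) (hB : B ≤ S) (hs : s ∈ S) (hc : s ∈ 𝐂[u]) :
    s ∈ B :=
  (h.syl.eq_of_le (le_inf hB (h.syl.le.trans inf_le_right)) (inf_le_inf_right _ hS.le)
    (hS.isPGroup.to_le inf_le_left)).le ⟨hs, hc⟩

theorem conj_u (h : Big Γ B P P' z u) (hS : Syl 2 S Γ) (hB : B ≤ S) (hs : s ∈ S ⊓ 𝐍(B))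
    (hsB : s ∉ B) : s * u * s⁻¹ = u * z := by
  rcases h.fr.D_cases h.mem h.ne h.cent ((h.fr.conj_mem_D hs.2).1 h.mem) with e | e | e | e
  · exact absurd e (conj_ne_one.2 h.ne)
  · exact absurd e (h.not_conj (hS.le hs.1))
  · exact absurd (h.mem_B hS hB hs.1 (mem_cent1_iff_conj.2 e)) hsB
  · exact e

theorem mem_z (h : Big Γ B P P' z u) (hS : Syl 2 S Γ) (hB : B ≤ S) (hs : s ∈ S) (hsB : s ∉ B)
    (hd : d ∈ Op 2 P ⊓ Op 2 P') (hc : s ∈ 𝐂[d]) : d ∈ zpowers z := by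
  rcases h.fr.D_cases h.mem h.ne h.cent hd with rfl | rfl | rfl | rfl
  exacts [one_mem _, mem_zpowers _, absurd (h.mem_B hS hB hs hc) hsB,
    absurd (h.symm.mem_B hS hB hs hc) hsB]

theorem Zc_le (h : Big Γ B P P' z u) (hS : Syl 2 S Γ) (hB : B ≤ S) (hs : s ∈ S) (hsB : s ∉ B) :
    Ohm 2 (Zc S) ≤ zpowers z := (Ohm_le _ _).trans fun _ hd => h.mem_z hS hB hs hsB
  (h.fr.Zc_eq ▸ ⟨h.mem_B hS hB hd.1 (cent_le_cent1 (hB h.u_mem) hd.2), cent_anti hB hd.2⟩)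
  (le_cent1_iff.2 hd.2 hs)

theorem not_norm (h : Big Γ B P P' z u) (hS : Syl 2 S Γ) (hB : B ≤ S) (hZ : Γ ⊓ 𝐂[z] ≤ 𝐍(S))
    (hs : s ∈ S ⊓ 𝐍(B)) (hsB : s ∉ B) : s ∉ 𝐍(Op 2 P) := fun hn => by
  obtain ⟨x, hx, hxB⟩ := h.fr.l.exists_not_mem
  have hQ := (Op_normal 2 P).norm
  have hv := h.fr.v_mem hx
  have hv' := h.fr.v_not_mem hx hxB
  obtain ⟨q, hq, hqB, hqn, hqv⟩ : ∃ q ∈ S ⊓ 𝐍(B), q ∉ B ∧ q ∈ 𝐍(Op 2 P) ∧ q ∈ 𝐂[x * z * x⁻¹] := by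
    have h1 := conj_mem_of_norm hn hv
    have h2 : s * (x * z * x⁻¹) * s⁻¹ ∉ Op 2 P' := fun e =>
      hv' ((h.fr.conj_mem_D hs.2).2 ⟨h1, e⟩).2
    have e1 : s * (x * z * x⁻¹) * s⁻¹ = s * x * z * (s * x)⁻¹ := by group
    rcases h.fr.mem_VV hx (e1 ▸ h.mem_VV hx hxB (mul_mem (hS.le hs.1) (h.le hx)) (e1 ▸ h1)) with
      e | e | e | e
    · exact absurd (e ▸ one_mem _) h2
    · exact absurd (e.symm ▸ h.fr.z_mem.2) h2
    · exact ⟨s, hs, hsB, hn, mem_cent1_iff_conj.2 e⟩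
    · obtain ⟨t, ht, ht'⟩ := h.fr.exists_r
      have htB := inv_mem (h.fr.r.Q_le ht)
      refine ⟨t⁻¹ * s, mul_mem ⟨hB htB, le_norm_self B htB⟩ hs, by rwa [B.mul_mem_cancel_left htB],
        mul_mem (hQ (h.fr.l.le htB)) hn, mem_cent1_iff_conj.2 ?_⟩
      rw [← h.fr.act (h.fr.r.Q_le ht) ht' hv hv'] at e
      calc _ = t⁻¹ * (s * (x * z * x⁻¹) * s⁻¹) * t := by group
        _ = _ := by rw [e]; group
  have h1 : x⁻¹ * q * x ∈ Γ := conj_mem_of_norm' (le_norm_self Γ (h.le hx)) (hS.le hq.1)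
  have h2 : x⁻¹ * q * x ∈ S := hS.mem_of_mem_norm h1 (hZ ⟨h1, by
    rwa [cent1_conj, mem_conj] at hqv⟩) (by simpa using (hS.piGrp.piElt hq.1).conj x⁻¹)
  have h3 := h.cl (Op 2 P) ((Op_le _ _).trans h.le) (Op_isPGroup _ _)
    (fun e => h.ne (e.le h.mem.1)) hQ (S ⊓ 𝐍(Op 2 P)) (hS.isPGroup.to_le inf_le_left)
    (le_inf hB (h.fr.l.le.trans hQ)) (inf_le_inf_right _ hS.le)
  have h4 : x⁻¹ * q * x ∈ 𝐍(B) := h3 ▸ norm_le_norm_BB _ (le_norm_self _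
    ⟨h2, conj_mem_of_norm' (le_norm_self _ (hQ hx)) hqn⟩)
  refine h.fr.v_not_mem (inv_mem hx) (fun e => hxB (inv_mem_iff.1 e))
    ((Subgroup.mul_mem_cancel_left _ h.mem.2).1 ?_)
  have : u * (x⁻¹ * z * x⁻¹⁻¹) = x⁻¹ * q * x * u * (x⁻¹ * q * x)⁻¹ :=
    calc _ = x⁻¹ * (u * z) * x := by
          rw [← mul_assoc, ← mul_assoc, ← mul_assoc, h.cent _ (inv_mem hx), inv_inv]
      _ = x⁻¹ * q * (u * x) * (x⁻¹ * q * x)⁻¹ := by rw [← h.conj_u hS hB hq hqB]; group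
      _ = _ := by rw [← h.cent x hx]; group
  exact this ▸ ((h.fr.conj_mem_D h4).1 h.mem).2

theorem swap (h : Big Γ B P P' z u) (hS : Syl 2 S Γ) (hB : B ≤ S) (hZ : Γ ⊓ 𝐂[z] ≤ 𝐍(S))
    (hs : s ∈ S ⊓ 𝐍(B)) (hsB : s ∉ B) (ha : a ∈ Op 2 P) (ha' : a ∉ Op 2 P') :
    s * a * s⁻¹ ∈ Op 2 P' ∧ s * a * s⁻¹ ∉ Op 2 P := by
  have h1 : s * a * s⁻¹ ∉ Op 2 P := fun e => h.not_norm hS hB hZ hs hsB (mem_norm_of_conj_le (by
    rw [conj_le_iff_le_inv_conj]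
    exact le_of_relIndex_two ((inf_relIndex_left _ _).trans h.fr.idx) (fun d hd => mem_conj.2
      (by simpa using ((h.fr.conj_mem_D hs.2).1 hd).1)) ha (fun e => ha' e.2)
      (mem_conj.2 (by simpa using e))))
  exact ⟨(h.fr.mem_or (conj_mem_of_norm hs.2 (h.fr.l.Q_le ha))
    (by rw [conj_pow, h.fr.ab.2 a ha]; simp)).resolve_left h1, h1⟩

theorem mem_z' (h : Big Γ B P P' z u) (hS : Syl 2 S Γ) (hB : B ≤ S) (hZ : Γ ⊓ 𝐂[z] ≤ 𝐍(S))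
    (hs : s ∈ S ⊓ 𝐍(B)) (hsB : s ∉ B) (hd : d ∈ B) (h2 : d ^ 2 = 1) (hc : s ∈ 𝐂[d]) :
    d ∈ zpowers z := by
  refine h.mem_z hS hB hs.1 hsB ?_ hc
  have e := mem_cent1_iff_conj.1 hc
  rcases h.fr.mem_or hd h2 with h1 | h1
  · exact ⟨h1, by_contra fun h3 => (h.swap hS hB hZ hs hsB h1 h3).2 (e.symm ▸ h1)⟩
  · exact ⟨by_contra fun h3 => (h.symm.swap hS hB hZ hs hsB h1 h3).2 (e.symm ▸ h1), h1⟩

theorem idx (h : Big Γ B P P' z u) (hS : Syl 2 S Γ) (hB : B ≤ S) (hs : s ∈ S ⊓ 𝐍(B))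
    (hsB : s ∉ B) : B.relIndex (S ⊓ 𝐍(B)) = 2 :=
  relIndex_eq_two_iff_exists_notMem_and.2 ⟨s, hs, hsB, fun b hb => or_iff_not_imp_right.2 fun e =>
    h.mem_B hS hB (mul_mem hb hs).1 (mem_cent1_iff_conj.2 (by
      calc _ = b * (s * u * s⁻¹) * b⁻¹ := by group
        _ = b * u * b⁻¹ * (b * z * b⁻¹) := by rw [h.conj_u hS hB hs hsB]; group
        _ = _ := by rw [h.conj_u hS hB hb e, mem_cent1_iff_conj.1 (h.fr.norm_le hb.2), h.mul_z_z]))⟩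

theorem conj_Q_le (h : Big Γ B P P' z u) (hS : Syl 2 S Γ) (hB : B ≤ S) (hZ : Γ ⊓ 𝐂[z] ≤ 𝐍(S))
    (hE : g •ᶜ Op 2 P ≤ S ⊓ 𝐍(B)) : g •ᶜ Op 2 P ≤ B := fun s hs => by_contra fun hsB => by
  have hab := (abelem_conj (g := g)).2 h.fr.ab
  have h1 := card_le (fun d hd => h.mem_z' hS hB hZ (hE hs) hsB hd.1 (hab.2 d hd.2)
    (mem_cent1.2 (comm_of_abelem hab hs hd.2)) : B ⊓ g •ᶜ Op 2 P ≤ zpowers z)
  have h2 := (Core.relIndex_mono_right B hE).trans (h.idx hS hB (hE hs) hsB).le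
  have h3 := card_inf_mul_relIndex B (g •ᶜ Op 2 P)
  have h4 := card_inf_mul_relIndex (Op 2 P') (Op 2 P)
  have h5 := card_lt (lt_of_le_of_ne (zpowers_le.2 h.fr.z_mem) fun e => by
    rcases (mem_zpowers_inv h.fr.z_ord).1 (e ▸ h.mem) with e | e
    exacts [h.ne e, h.fr.z_not_cent (e ▸ h.cent)])
  rw [Nat.card_zpowers, h.fr.z_ord] at h1 h5
  rw [card_conj, ← h4, h.fr.idx, inf_comm (Op 2 P')] at h3
  have := Nat.mul_le_mul h1 h2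
  omega

theorem norm_le (h : Big Γ B P P' z u) (hS : Syl 2 S Γ) (hB : B ≤ S) (hZ : Γ ⊓ 𝐂[z] ≤ 𝐍(S)) :
    𝐍(S) ≤ 𝐍(B) := by
  have h1 : 𝐍(S ⊓ 𝐍(B)) ≤ 𝐍(B) := fun g hg => mem_norm_of_conj_le (by
    have h2 := conj_le_of_mem_norm hg (le_inf hB (le_norm_self B))
    refine (conj_mono g (h.fr.l.le_of' le_sup_left h.fr.r.Q_le h.fr.nle' le_sup_right)).trans ?_
    rw [conj_sup]
    exact sup_le (h.conj_Q_le hS hB hZ ((conj_mono g h.fr.l.Q_le).trans h2))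
      (h.symm.conj_Q_le hS hB hZ ((conj_mono g h.fr.r.Q_le).trans h2)))
  rwa [eq_of_nil_of_inf_norm_le hS.nil inf_le_left (inf_le_inf_left _ h1)] at h1

theorem comm_vw (h : Big Γ B P P' z u) (hv : v ∈ Op 2 P) (hv' : v ∉ Op 2 P') (hw : w ∈ Op 2 P')
    (hw' : w ∉ Op 2 P) : w * (z * v) = v * w := by
  calc _ = w * z * w⁻¹ * (w * v * w⁻¹) * w := by group
    _ = _ := by rw [h.fr.act (h.fr.r.Q_le hw) hw' hv hv', h.fr.cent_of_mem h.fr.z_mem (h.fr.r.Q_le hw),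
      ← mul_assoc, mul_self_of_inv h.fr.z_ord, one_mul]

theorem false_of_lt (h : Big Γ B P P' z u) (hS : Syl 2 S Γ) (hB : B < S)
    (hZ : Γ ⊓ 𝐂(Ohm 2 (Zc S)) ≤ 𝐍(S)) (hg : Γ ≤ Oup 2 Γ ⊔ Ohm 2 (Zc S)) : False := by
  obtain ⟨s, hs, hsB⟩ := SetLike.exists_of_lt (lt_inf_norm_of_nil hS.nil hB)
  obtain ⟨x, hx, hxB⟩ := h.fr.l.exists_not_mem
  obtain ⟨x', hx', hxB'⟩ := h.fr.r.exists_not_mem
  have hB := hB.le
  have h1 := h.Zc_le hS hB hs.1 hsB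
  have hZ : Γ ⊓ 𝐂[z] ≤ 𝐍(S) := (inf_le_inf_left _ (cent_zpowers z ▸ cent_anti h1)).trans hZ
  have hN := h.norm_le hS hB hZ
  have hSN := le_inf le_rfl ((le_norm_self S).trans hN)
  have hi := h.idx hS hB hs hsB
  have hK := h.norm_K hx hxB hx' hxB'
  have hKB := h.fr.K_le hx hx'
  have hnc := fun g hg => h.not_conj_mem (g := g) hx hxB hx' hxB' hg
  have hor := fun b hb => h.mem_or (b := b) hx hxB hx' hxB' hb
  have hv := h.fr.v_mem hx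
  have hv' := h.fr.v_not_mem hx hxB
  have hvK : x * z * x⁻¹ ∈ VV z (x * z * x⁻¹) ⊔ VV z (x' * z * x'⁻¹) :=
    mem_sup_left (right_mem_VV _ _)
  have hzK : zpowers z ≤ VV z (x * z * x⁻¹) ⊔ VV z (x' * z * x'⁻¹) := le_sup_of_le_left le_sup_left
  have huH : u ∈ Oup 2 Γ := (hg.trans (sup_le le_rfl (h1.trans (le_sup_left.trans
    (h.fr.VV_le_Oup h.le hx))))) (h.le_Γ h.u_mem)
  generalize VV z (x * z * x⁻¹) ⊔ VV z (x' * z * x'⁻¹) = K at *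
  generalize x * z * x⁻¹ = v at *
  have hsK := hK ⟨hS.le hs.1, hs.2⟩
  have hvB := h.fr.l.Q_le hv
  have hs2 : s ^ 2 ∈ K := by
    have h2 := sq_mem_of_relIndex_two hi hs
    by_cases e : (s ^ 2) ^ 2 = 1
    · exact hzK (h.mem_z' hS hB hZ hs hsB h2 e (mem_cent1.2 (by group)))
    obtain ⟨hw, hw'⟩ := h.swap hS hB hZ hs hsB hv hv'
    have hwB := h.fr.r.Q_le hw
    have e1 : s ^ 2 ∉ Op 2 P := fun e' => e (h.fr.ab.2 _ e')
    have e2 : s ^ 2 ∉ Op 2 P' := fun e' => e (h.fr.ab'.2 _ e')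
    refine (K.mul_mem_cancel_left (mul_mem hvK (conj_mem_of_norm hsK hvK))).1 (hzK (h.mem_z hS hB
      hs.1 hsB ⟨by rw [mul_assoc v]; exact (Op 2 P).mul_mem hv (h.fr.mul_mem_Q hwB hw' h2 e1),
        h.fr.symm.mul_mem_Q (mul_mem hvB hwB) (by rwa [Subgroup.mul_mem_cancel_right _ hw]) h2 e2⟩
      (mem_cent1_iff_conj.2 ?_)))
    calc _ = s * v * s⁻¹ * (s ^ 2 * v * (s ^ 2)⁻¹) * s ^ 2 := by group
      _ = _ := by rw [h.fr.act h2 e1 hv hv', h.comm_vw hv hv' hw hw']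
  have hsM : s ∈ K ⊔ zpowers s := mem_sup_right (mem_zpowers s)
  have hMS : K ⊔ zpowers s ≤ S := sup_le (hKB.trans hB) (zpowers_le.2 hs.1)
  have hMB : ∀ y ∈ K ⊔ zpowers s, y ∈ B → y ∈ K := fun y hy hyB => by_contra fun e => hsB
    ((B.mul_mem_cancel_left hyB).1 (hKB ((mul_mem_iff_of_relIndex_two (by
      rw [relIndex_sup_eq' (Or.inr (zpowers_le.2 hsK))]
      exact PGrp.relIndex_zpowers_eq_prime (fun e => hsB (hKB e)) hs2) hy hsM).2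
        (by simp [e, show s ∉ K from fun e => hsB (hKB e)]))))
  obtain ⟨g, hg, hgM⟩ := exists_conj_mem' hS hMS (relIndex_eq_two_iff_exists_notMem_and.2
    ⟨u, hB h.u_mem, fun e => hnc 1 (one_mem _) (by simpa using hMB u e h.u_mem), fun b hb => by
      by_cases e : b ∈ B
      · exact (hor b e).imp mem_sup_left mem_sup_left
      rcases hor _ ((mul_mem_iff_of_relIndex_two hi (hSN hb) (inv_mem hs)).2 (by simp [e, hsB])) with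
        e' | e'
      · refine Or.inl ?_
        have := mul_mem (mem_sup_left (mul_mem e' (hzK (mem_zpowers z)))) hsM
        rw [mul_assoc _ u, ← h.conj_u hS hB hs hsB] at this
        simpa [mul_assoc] using this
      · exact Or.inr (by simpa using mul_mem (mem_sup_left e') hsM)⟩) huH (h.fr.ab.2 u h.mem.1)
  have ht := hSN (hMS hgM)
  have htB : g * u * g⁻¹ ∉ B := fun e => hnc g hg (hMB _ hgM e)
  have ht2 : g * u * g⁻¹ * (g * u * g⁻¹) = 1 := by rw [← sq, conj_pow, h.fr.ab.2 u h.mem.1]; simp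
  obtain ⟨hw, hw'⟩ := h.swap hS hB hZ ht htB hv hv'
  have hut := h.conj_u hS hB ht htB
  have key := fun T hT h1 => h.exists_le (T := T) hg hT h1
  generalize g * u * g⁻¹ = t at *
  have hy : u * (v * (t * v * t⁻¹)) ∈ B := mul_mem h.u_mem (mul_mem hvB (h.fr.r.Q_le hw))
  have hy2 := h.fr.sq_eq hy (by rwa [Subgroup.mul_mem_cancel_left _ h.mem.1,
    Subgroup.mul_mem_cancel_left _ hv])
    (by rwa [Subgroup.mul_mem_cancel_left _ h.mem.2, Subgroup.mul_mem_cancel_right _ hw])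
  obtain ⟨k, hk, e1, e2⟩ := key (zpowers (u * (v * (t * v * t⁻¹))))
    (h.fr.l.syl.isPGroup.to_le (zpowers_le.2 hy)) (zpowers_le.2 ⟨h.le_Γ hy, mem_cent1_comm.1
      (mem_cent1_iff_conj.2 (by
        calc _ = t * u * t⁻¹ * (t * v * t⁻¹ * (t * t * v * (t * t)⁻¹)) := by group
          _ = u * (t * v * t⁻¹ * ((t * v * t⁻¹)⁻¹ * z * (t * v * t⁻¹)⁻¹⁻¹ * v)) := by
            rw [hut, ht2]; group
          _ = _ := by rw [h.fr.cent_of_mem h.fr.z_mem (inv_mem (h.fr.r.Q_le hw)),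
            h.comm_vw hv hv' hw hw']))⟩)
  have e3 : (k⁻¹ * (u * (v * (t * v * t⁻¹))) * k) ^ 2 = k⁻¹ * z * k := by
    rw [← hy2, sq, sq]; group
  have e4 := h.fr.eq_of_sq (mem_conj.1 (e2 (mem_zpowers _)))
    (by rw [e3]; exact conj_ne_one'.2 h.fr.z_ne)
  exact htB (e1 ▸ conj_mem_of_norm (hN (hZ ⟨hk, (Subgroup.inv_mem_iff _).1 (mem_cent1_iff_conj.2
    (by rw [inv_inv, ← e3, e4]))⟩)) h.u_mem)

theorem not_mem (h : Big Γ B P P' z u) (hS : Syl 2 B Γ) : u ∉ Oup 2 Γ := fun hu => by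
  obtain ⟨x, hx, hxB⟩ := h.fr.l.exists_not_mem
  obtain ⟨x', hx', hxB'⟩ := h.fr.r.exists_not_mem
  obtain ⟨g, hg, e⟩ := exists_conj_mem' hS (h.fr.K_le hx hx') (relIndex_eq_two_iff_exists_notMem_and.2
    ⟨u, h.u_mem, by simpa using h.not_conj_mem hx hxB hx' hxB' (one_mem _),
      fun b hb => h.mem_or hx hxB hx' hxB' hb⟩) hu (h.fr.ab.2 u h.mem.1)
  exact h.not_conj_mem hx hxB hx' hxB' hg e

end Big

/-- `R` has a proper self-centralizing four-group -/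
def SC (R : Subgroup G) : Prop := ∃ A, IsEp 2 2 A R ∧ R ⊓ 𝐂(A) ≤ A ∧ A ≠ R

theorem Fr.sc (h : Fr B P P' z) (hP : P ≤ Γ) (hP' : P' ≤ Γ) (hB : B ≤ S) (hx : x ∈ P) (hxB : x ∉ B)
    (h1 : S ⊓ 𝐂(VV z (x * z * x⁻¹)) ≤ B) (h2 : Op 2 P ⊓ Op 2 P' ⊓ Oup 2 Γ ≤ zpowers z) :
    SC (S ⊓ Oup 2 Γ) := by
  have hv := h.v_mem hx
  have hv' := h.v_not_mem hx hxB
  have hV := VV_le h.z_mem.1 hv
  have hH := h.VV_le_Oup hP hx
  obtain ⟨x', hx', hxB'⟩ := h.r.exists_not_mem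
  refine ⟨VV z (x * z * x⁻¹), ⟨le_inf (hV.trans (h.l.Q_le.trans hB)) hH, abelem_of_le h.ab hV,
    h.card_VV hx hxB⟩, fun y hy => ?_, fun e => h.symm.v_not_mem hx' hxB' (hV (e.ge
      ⟨hB (h.r.Q_le (h.symm.v_mem hx')), h.symm.VV_le_Oup hP' hx' (right_mem_VV _ _)⟩))⟩
  have h3 : y ∈ Op 2 P := by_contra fun e => h.z_ne (by
    have := h.act (h1 ⟨hy.1.1, hy.2⟩) e hv hv'
    rwa [mem_cent_iff_conj.1 hy.2 _ (right_mem_VV _ _), eq_comm, mul_eq_right] at this)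
  by_cases e : y ∈ Op 2 P'
  · exact mem_sup_left (h2 ⟨⟨h3, e⟩, hy.1.2⟩)
  · exact (Subgroup.mul_mem_cancel_right _ (right_mem_VV _ _)).1 (mem_sup_left
      (h2 ⟨h.mul_mem_D h3 e hv hv', mul_mem hy.1.2 (hH (right_mem_VV _ _))⟩))

theorem ZG.exists_sc (h : ZG Γ) (hg : ∀ S, Syl 2 S Γ → Γ ≤ Oup 2 Γ ⊔ Ohm 2 (Zc S)) (hU : Two Γ T) :
    ∃ S, Syl 2 S Γ ∧ SC (S ⊓ Oup 2 Γ) := by
  obtain ⟨P, P', h1, h2, he, c1, c2⟩ := h.exists_edge hU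
  obtain ⟨z, hz⟩ := he.exists_fr
  generalize P ⊓ P' = B at *
  obtain ⟨S, hS, hB⟩ := exists_syl_ge (hz.l.le.trans h1) hz.l.syl.isPGroup
  obtain ⟨x, hx, hxB⟩ := hz.l.exists_not_mem
  refine ⟨S, hS, ?_⟩
  by_cases e : ∃ u ∈ Op 2 P ⊓ Op 2 P', u ≠ 1 ∧ u ∈ 𝐂(P)
  · obtain ⟨u, e1, e2, e3⟩ := e
    have hb : Big Γ B P P' z u := ⟨hz, h1, h2, c1, c2, e1, e2, e3⟩
    obtain rfl : B = S := by_contra fun e =>
      hb.false_of_lt hS (lt_of_le_of_ne hB e) (h.norm S hS) (hg S hS)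
    refine hz.sc h1 h2 le_rfl hx hxB inf_le_left fun d hd => ?_
    rcases hz.D_cases e1 e2 e3 hd.1 with rfl | rfl | rfl | rfl
    exacts [one_mem _, mem_zpowers _, absurd hd.2 (hb.not_mem hS), absurd hd.2 (hb.symm.not_mem hS)]
  · push Not at e
    have hD : Op 2 P ⊓ Op 2 P' ≤ zpowers z := fun d hd => by
      rcases hz.cent_or hd with e' | e'
      · exact (by_contra fun e1 => e d hd e1 e' : d = 1) ▸ one_mem _
      · exact (Subgroup.mul_mem_cancel_right _ (mem_zpowers z)).1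
          ((by_contra fun e1 => e _ (mul_mem hd hz.z_mem) e1 e' : d * z = 1) ▸ one_mem _)
    refine hz.sc h1 h2 hB hx hxB ?_ (inf_le_left.trans hD)
    have hQ := (Op_normal 2 P).norm
    have h3 := hz.inf_cent_le (c1 (Op 2 P) ((Op_le _ _).trans h1) (Op_isPGroup _ _)
      (fun e => hz.z_ne (e.le hz.z_mem.1)) hQ (S ⊓ 𝐍(Op 2 P)) (hS.isPGroup.to_le inf_le_left)
      (le_inf hB (hz.l.le.trans hQ)) (inf_le_inf_right _ hS.le))
    have h4 : Op 2 P ≤ VV z (x * z * x⁻¹) := le_of_relIndex_two ((inf_relIndex_left _ _).trans hz.idx)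
      (hD.trans le_sup_left) (hz.v_mem hx) (fun e => hz.v_not_mem hx hxB e.2) (right_mem_VV _ _)
    exact (le_inf (inf_le_inf_left _ ((cent_anti h4).trans (cent_le_norm _)))
      (inf_le_right.trans (cent_anti (inf_le_left.trans h4)))).trans h3

end Cfsg.Agent.ZN
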