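import Mathlib
import Cfsg.Agent.Lib.ZN.End

/-!
# The structure theorem for `ZN`-groups
-/

set_option autoImplicit false

namespace Cfsg.Agent.ZN

open Subgroup Cfsg.Agent.Coprime Cfsg.Agent.OO
open scoped Pointwise

universe u

variable {G : Type u} [Group G] {R S : Subgroup G}

theorem SC.conj (h : SC R) (g : G) : SC (g •ᶜ R) := by
  obtain ⟨A, h1, h2, h3⟩ := h
  exact ⟨g •ᶜ A, h1.conj g, by rw [cent_conj, ← conj_inf]; exact conj_mono g h2, conj_inj.not.2 h3⟩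

variable [Finite G]

theorem SC.iso (h : SC R) (hR : IsPGroup 2 R) :
    (∃ n, 2 ≤ n ∧ Nonempty (R ≃* DihedralGroup n)) ∨ IsQuasiDihedral R := by
  obtain ⟨A, h1, h2, h3⟩ := h
  obtain ⟨n, hn⟩ := hR.exists_card_eq
  have h4 := card_lt (lt_of_le_of_ne h1.le h3)
  rw [h1.card, hn, Nat.pow_lt_pow_iff_right one_lt_two] at h4
  obtain ⟨n, rfl⟩ : ∃ m, n = m + 3 := ⟨n - 3, by omega⟩
  obtain ⟨x, y, hxy⟩ := PGrp.dqs_of_maxClass hn (PGrp.nilpotencyClass_eq_of_centralizer_le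
    (n := n + 1) hn (A := A.subgroupOf R) (by rw [Core.card_subgroupOf_of_le h1.le, h1.card])
    (Core.centralizer_le_iff_map_subtype.2 (by rwa [map_subgroupOf_eq_of_le h1.le])))
  rcases hxy.iso with e | ⟨⟨e⟩⟩ | e
  · exact Or.inl ⟨_, le_self_pow₀ one_le_two (by omega), e⟩
  · refine absurd (isCyclic_of_injective ((e.toMonoidHom.comp (inclusion h1.le)).codRestrict
      (zpowers (QuaternionGroup.a 1)) fun a => ?_) fun a b hab => inclusion_injective _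
        (e.injective (congrArg Subtype.val hab))) (h1.not_isCyclic le_rfl)
    have h5 : (e.toMonoidHom.comp (inclusion h1.le)) a ^ 2 = 1 := by
      rw [← map_pow, show a ^ 2 = 1 from Subtype.ext (h1.abelem.2 a a.2), map_one]
    generalize (e.toMonoidHom.comp (inclusion h1.le)) a = q at h5
    rcases q with i | i
    · exact ⟨(i.val : ℤ), by simp only [zpow_natCast, QuaternionGroup.a_one_pow]; simp⟩
    · have := orderOf_dvd_of_pow_eq_one h5
      rw [QuaternionGroup.orderOf_xa] at this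
      omega
  · exact Or.inr e

theorem zn_main (hN : ∀ X : Subgroup G, IsPGroup 2 X → X ≠ ⊥ → Sol 𝐍(X)) (he : Even (Nat.card G))
    (hZ : ∀ S : Subgroup G, Syl 2 S ⊤ → 𝐂(Ohm 2 (Zc S)) ≤ 𝐍(S)) (hO' : pPrimeCore 2 G = ⊥)
    (hO : pCore 2 G = ⊥) (hS : Syl 2 S ⊤) (hL : LocChar (pResidual 2 G ⊔ Ohm 2 (Zc S))) :
    (∃ M : Subgroup ↥(pResidual 2 G), IsStronglyEmbedded M) ∨ SC (S ⊓ pResidual 2 G) := by
  set H := pResidual 2 G
  set Γ := H ⊔ Ohm 2 (Zc S)
  have hH : H ⊴ ⊤ := normalIn_top.2 inferInstance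
  have hΓ : Γ ⊴ ⊤ := ⟨le_top, by
    obtain ⟨P, rfl⟩ := hS.exists_sylow_top
    exact Transfer.pResidual_sup_sylow P ▸ sup_le (le_norm_of_le le_sup_left)
      (le_norm_sup (le_top.trans hH.norm) (le_norm_Ohm 2 (le_norm_Zc (le_norm_self _))))⟩
  have hO2 : Oup 2 Γ = H := le_antisymm (Oup_le_iff.2 fun x _ hx => subset_closure hx)
    ((closure_le _).2 fun x hx => mem_Oup (mem_sup_left (subset_closure hx)) hx)
  have key : ∀ T, Syl 2 T Γ → ∃ g, T = g •ᶜ S ⊓ Γ ∧ Ohm 2 (Zc (g •ᶜ S)) ≤ Ohm 2 (Zc T) ∧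
      Γ ≤ H ⊔ Ohm 2 (Zc T) := fun T hT => by
    obtain ⟨g, -, hg⟩ := hS.exists_le_conj' le_top hT.isPGroup
    have h1 := hT.eq_of_le (le_inf hg hT.le) inf_le_right
      ((isPGroup_conj.2 hS.isPGroup).to_le inf_le_left)
    have h2 : Γ = H ⊔ Ohm 2 (Zc (g •ᶜ S)) := by
      rw [Zc_conj, Ohm_conj, ← hH.conj_eq (mem_top g), ← conj_sup, hΓ.conj_eq (mem_top g)]
    have h3 : Ohm 2 (Zc (g •ᶜ S)) ≤ Ohm 2 (Zc T) := Ohm_le_Ohm (le_inf (h1 ▸ le_inf
      ((Ohm_le _ _).trans inf_le_left) (h2 ▸ le_sup_right))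
      ((Ohm_le _ _).trans (inf_le_right.trans (cent_anti hg))))
    exact ⟨g, h1.symm, h3, h2.le.trans (sup_le_sup_left h3 _)⟩
  have hG : ZG Γ := ⟨fun X _ h1 h2 => sol_of_le (hN X h1 h2) inf_le_right, hL, fun T hT => by
    obtain ⟨g, h1, h2, -⟩ := key T hT
    exact h1 ▸ le_norm_inf (inf_le_right.trans ((cent_anti (h1 ▸ h2)).trans
      (hZ _ (hS.conj_of_mem (mem_top g))))) (le_norm_of_le inf_le_left)⟩
  by_cases e : ∃ U, Two Γ U
  · obtain ⟨U, hU⟩ := e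
    obtain ⟨T, hT, h1⟩ := hG.exists_sc (fun T hT => hO2 ▸ (key T hT).choose_spec.2.2) hU
    obtain ⟨g, rfl, -⟩ := key T hT
    rw [hO2, inf_assoc, inf_eq_right.2 (le_sup_left : H ≤ Γ), ← hH.conj_eq (mem_top g),
      ← conj_inf] at h1
    exact Or.inr (by simpa only [inv_conj_conj] using h1.conj g⁻¹)
  · have h1 := dvd_card_residual he hO' hO hS
    have hT := hS.inf_normal hΓ
    have h2 : H ⊓ S ≤ S ⊓ Γ := le_inf inf_le_right (inf_le_left.trans le_sup_left)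
    obtain ⟨M, h3, h4, h5⟩ := exists_se (le_bot_iff.1 ((Op_le_of_normal 2 hΓ).trans
      (by rw [Op_top, hO]))) hT (ne_bot_of_prime_dvd Nat.prime_two (h1.trans (card_dvd h2)))
      (not_exists.1 e)
    exact Or.inl ⟨_, stronglyEmbedded_subgroupOf (M := M) (fun e => h4 (sup_le e (le_trans
      (le_inf ((Ohm_le _ _).trans inf_le_left) le_sup_right) h3)))
      (h1.trans (card_dvd (le_inf inf_le_left (h2.trans h3))))
      fun g hg hg' e => h5 g (mem_sup_left hg) hg' (e.trans (card_dvd inf_le_right))⟩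

end Cfsg.Agent.ZN
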